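import Mathlib
import Cfsg.Agent.H819.U33.Base
import Cfsg.Agent.BMx.Bridge
import Cfsg.Agent.Prune
set_option linter.all false

-- part: H863/U33/Num
section
set_option linter.all false

/-!
# S5525, part F: the numbers of the 3-local subgroup `3^(1+8).2^(1+6).U4(2)` of the Baby Monster (helper863)

Rows: `s⁻¹ e_j s = nf (row j) (constant j)`.
-/

set_option autoImplicit false

namespace Cfsg.Agent.H863.U33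

/-- `e_i e_j = y^(fm i j) e_j e_i` -/
def fm : Fin 8 → Fin 8 → ZMod 3 :=
  ![![0, 1, 0, 0, 0, 0, 0, 0],
    ![2, 0, 0, 0, 0, 0, 0, 0],
    ![0, 0, 0, 2, 0, 0, 0, 0],
    ![0, 0, 1, 0, 0, 0, 0, 0],
    ![0, 0, 0, 0, 0, 1, 0, 0],
    ![0, 0, 0, 0, 2, 0, 0, 0],
    ![0, 0, 0, 0, 0, 0, 0, 2],
    ![0, 0, 0, 0, 0, 0, 1, 0]]

/-- `w_a^2 = t^(sqw a)` -/
def sqw : Fin 6 → ZMod 2 := ![0, 0, 0, 0, 0, 1]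

/-- `w_a w_b = t^(bc a b) w_b w_a` -/
def bc : Fin 6 → Fin 6 → ZMod 2 :=
  ![![0, 1, 0, 0, 0, 0],
    ![1, 0, 0, 1, 0, 0],
    ![0, 0, 0, 1, 1, 0],
    ![0, 1, 1, 0, 1, 0],
    ![0, 0, 1, 1, 0, 1],
    ![0, 0, 0, 0, 1, 0]]

/-- the central involution `t` of `2^(1+6)` -/
def Mt : Fin 8 → Fin 8 → ZMod 3 :=
  ![![2, 0, 0, 0, 0, 0, 0, 0],
    ![0, 2, 0, 0, 0, 0, 0, 0],
    ![0, 0, 2, 0, 0, 0, 0, 0],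
    ![0, 0, 0, 2, 0, 0, 0, 0],
    ![0, 0, 0, 0, 2, 0, 0, 0],
    ![0, 0, 0, 0, 0, 2, 0, 0],
    ![0, 0, 0, 0, 0, 0, 2, 0],
    ![0, 0, 0, 0, 0, 0, 0, 2]]

def Ct : Fin 8 → ZMod 3 := ![0, 0, 2, 0, 0, 0, 2, 0]

/-- `w_0` -/
def Mw0 : Fin 8 → Fin 8 → ZMod 3 :=
  ![![1, 0, 0, 0, 0, 0, 0, 0],
    ![0, 1, 0, 0, 0, 0, 0, 0],
    ![0, 0, 1, 0, 0, 0, 0, 0],
    ![0, 0, 0, 1, 0, 0, 0, 0],
    ![0, 0, 0, 0, 2, 0, 0, 0],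
    ![0, 0, 0, 0, 0, 2, 0, 0],
    ![0, 0, 0, 0, 0, 0, 2, 0],
    ![0, 0, 0, 0, 0, 0, 0, 2]]

def Cw0 : Fin 8 → ZMod 3 := ![0, 0, 0, 0, 0, 0, 2, 0]

/-- `w_1` -/
def Mw1 : Fin 8 → Fin 8 → ZMod 3 :=
  ![![0, 0, 0, 0, 1, 0, 0, 0],
    ![0, 0, 0, 0, 0, 1, 0, 0],
    ![0, 0, 0, 0, 0, 0, 1, 0],
    ![0, 0, 0, 0, 0, 0, 0, 1],
    ![1, 0, 0, 0, 0, 0, 0, 0],
    ![0, 1, 0, 0, 0, 0, 0, 0],
    ![0, 0, 1, 0, 0, 0, 0, 0],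
    ![0, 0, 0, 1, 0, 0, 0, 0]]

def Cw1 : Fin 8 → ZMod 3 := ![0, 0, 0, 0, 0, 0, 0, 0]

/-- `w_2` -/
def Mw2 : Fin 8 → Fin 8 → ZMod 3 :=
  ![![2, 0, 0, 0, 0, 0, 0, 0],
    ![0, 2, 0, 0, 0, 0, 0, 0],
    ![0, 0, 1, 0, 0, 0, 0, 0],
    ![0, 0, 0, 1, 0, 0, 0, 0],
    ![0, 0, 0, 0, 2, 0, 0, 0],
    ![0, 0, 0, 0, 0, 2, 0, 0],
    ![0, 0, 0, 0, 0, 0, 1, 0],
    ![0, 0, 0, 0, 0, 0, 0, 1]]

def Cw2 : Fin 8 → ZMod 3 := ![0, 0, 0, 0, 0, 0, 0, 0]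

/-- `w_3` -/
def Mw3 : Fin 8 → Fin 8 → ZMod 3 :=
  ![![0, 0, 0, 2, 0, 0, 0, 0],
    ![0, 0, 2, 0, 0, 0, 0, 0],
    ![0, 2, 0, 0, 0, 0, 0, 0],
    ![2, 0, 0, 0, 0, 0, 0, 0],
    ![0, 0, 0, 0, 0, 0, 0, 1],
    ![0, 0, 0, 0, 0, 0, 1, 0],
    ![0, 0, 0, 0, 0, 1, 0, 0],
    ![0, 0, 0, 0, 1, 0, 0, 0]]

def Cw3 : Fin 8 → ZMod 3 := ![0, 1, 1, 0, 0, 2, 1, 0]

/-- `w_4` -/
def Mw4 : Fin 8 → Fin 8 → ZMod 3 :=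
  ![![0, 0, 1, 2, 0, 0, 0, 0],
    ![0, 0, 1, 1, 0, 0, 0, 0],
    ![2, 2, 0, 0, 0, 0, 0, 0],
    ![1, 2, 0, 0, 0, 0, 0, 0],
    ![0, 0, 0, 0, 0, 0, 1, 2],
    ![0, 0, 0, 0, 0, 0, 1, 1],
    ![0, 0, 0, 0, 2, 2, 0, 0],
    ![0, 0, 0, 0, 1, 2, 0, 0]]

def Cw4 : Fin 8 → ZMod 3 := ![0, 1, 2, 2, 0, 1, 2, 2]

/-- `w_5` -/
def Mw5 : Fin 8 → Fin 8 → ZMod 3 :=
  ![![0, 1, 0, 0, 0, 0, 0, 0],
    ![2, 0, 0, 0, 0, 0, 0, 0],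
    ![0, 0, 0, 2, 0, 0, 0, 0],
    ![0, 0, 1, 0, 0, 0, 0, 0],
    ![0, 0, 0, 0, 0, 1, 0, 0],
    ![0, 0, 0, 0, 2, 0, 0, 0],
    ![0, 0, 0, 0, 0, 0, 0, 2],
    ![0, 0, 0, 0, 0, 0, 1, 0]]

def Cw5 : Fin 8 → ZMod 3 := ![0, 0, 1, 2, 0, 0, 1, 2]

/-- `k_0` -/
def Mk0 : Fin 8 → Fin 8 → ZMod 3 :=
  ![![0, 0, 1, 0, 0, 0, 0, 0],
    ![0, 0, 1, 2, 0, 0, 0, 0],
    ![0, 2, 0, 0, 0, 0, 0, 0],
    ![2, 1, 0, 0, 0, 0, 0, 0],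
    ![0, 0, 0, 0, 1, 1, 0, 0],
    ![0, 0, 0, 0, 2, 0, 0, 0],
    ![0, 0, 0, 0, 0, 0, 1, 1],
    ![0, 0, 0, 0, 0, 0, 0, 1]]

def Ck0 : Fin 8 → ZMod 3 := ![2, 0, 1, 2, 1, 0, 2, 0]

/-- `k_1` -/
def Mk1 : Fin 8 → Fin 8 → ZMod 3 :=
  ![![1, 0, 0, 0, 2, 1, 0, 0],
    ![1, 2, 0, 0, 1, 0, 0, 0],
    ![0, 0, 2, 1, 0, 0, 0, 1],
    ![0, 0, 0, 1, 0, 0, 1, 2],
    ![0, 1, 0, 0, 2, 2, 0, 0],
    ![1, 1, 0, 0, 0, 1, 0, 0],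
    ![0, 0, 2, 2, 0, 0, 2, 0],
    ![0, 0, 2, 0, 0, 0, 1, 1]]

def Ck1 : Fin 8 → ZMod 3 := ![2, 2, 0, 0, 1, 1, 2, 2]

/-- `n` (inverts `y`) -/
def Mn : Fin 8 → Fin 8 → ZMod 3 :=
  ![![1, 1, 1, 1, 0, 0, 0, 0],
    ![0, 1, 1, 0, 0, 0, 0, 0],
    ![1, 1, 2, 2, 0, 0, 0, 0],
    ![0, 2, 1, 0, 0, 0, 0, 0],
    ![0, 0, 0, 0, 1, 1, 2, 2],
    ![0, 0, 0, 0, 0, 1, 2, 0],
    ![0, 0, 0, 0, 2, 2, 2, 2],
    ![0, 0, 0, 0, 0, 1, 1, 0]]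

def Cn : Fin 8 → ZMod 3 := ![2, 2, 0, 2, 1, 1, 0, 2]

/-- all `w_a` -/
def Mw : Fin 6 → Fin 8 → Fin 8 → ZMod 3 := ![Mw0, Mw1, Mw2, Mw3, Mw4, Mw5]

def Cw : Fin 6 → Fin 8 → ZMod 3 := ![Cw0, Cw1, Cw2, Cw3, Cw4, Cw5]

def Mk : Fin 2 → Fin 8 → Fin 8 → ZMod 3 := ![Mk0, Mk1]

def Ck : Fin 2 → Fin 8 → ZMod 3 := ![Ck0, Ck1]

/-- `k_c⁻¹ w_a k_c = wf (Kw c a) (Ke c a)` -/
def Kw : Fin 2 → Fin 6 → Fin 6 → ZMod 2 :=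
  ![![![1, 0, 0, 0, 0, 0],
    ![0, 1, 0, 0, 1, 0],
    ![1, 0, 1, 0, 0, 0],
    ![0, 0, 0, 0, 1, 1],
    ![0, 0, 0, 0, 1, 0],
    ![0, 0, 1, 1, 1, 1]],
   ![![0, 1, 1, 1, 1, 0],
    ![0, 1, 0, 1, 1, 1],
    ![0, 0, 1, 0, 0, 0],
    ![1, 0, 0, 1, 0, 0],
    ![0, 1, 0, 0, 1, 1],
    ![1, 1, 0, 0, 0, 0]]]

def Ke : Fin 2 → Fin 6 → ZMod 2 := ![![0, 1, 1, 0, 1, 1], ![0, 1, 0, 0, 0, 0]]

/-- `n⁻¹ w_a n = wf (Nw a) (Ne a)` -/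
def Nw : Fin 6 → Fin 6 → ZMod 2 :=
  ![![1, 0, 0, 0, 0, 0],
    ![0, 1, 1, 1, 0, 0],
    ![0, 0, 0, 1, 0, 0],
    ![1, 0, 0, 0, 1, 0],
    ![1, 0, 1, 1, 0, 1],
    ![1, 0, 1, 1, 1, 0]]

def Ne : Fin 6 → ZMod 2 := ![0, 0, 0, 0, 0, 0]

end Cfsg.Agent.H863.U33
end

-- part: H863/U33/Words
section
prune_inst 0x7f00000000000000000000000000000000000000000000000000000000000000000000000000000000000000000000000000000000000000000000000000000000000000000000000000000000000000003fffffffffffffffffffffffffffbeffbdffffffff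
set_option linter.all false

/-!
# S5525, part F: the words of `3^(1+8).2^(1+6).U4(2)` (helper863)
-/

set_option autoImplicit false

namespace Cfsg.Agent.H863.U33

open Cfsg.Agent.BabyM.Conc Cfsg.Agent.BabyM.Inst Cfsg.Agent.BabyM.TransInv Cfsg.Agent.H819.U33

/-- `y1`, class 3B -/
def wy1 : List Ltr :=
  [.taui, .xi, .p, .xi, .p9, .taui, .xi, .p2, .xi, .p8, .h, .p2, .y6, .xii, .p2, .y6, .xii, .p2, .y6, .xii, .p2,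
  .y6, .xii, .hi, .p3, .xii, .p9, .xii, .tau, .p2, .xii, .p10, .xii, .tau]

/-- `e0` -/
def we0 : List Ltr :=
  [.X1, .X2, .X5, .X7, .X8, .X9, .Z0, .Z1, .Z3, .Z4, .Z5, .Z6, .z, .y1, .xii, .p4, .y10, .h, .p6, .y4, .xii,
  .xii, .p5, .h, .p7, .y3]

/-- `e1` -/
def we1 : List Ltr :=
  [.X0, .X1, .X2, .X3, .X4, .Z0, .Z4, .Z7, .Z8, .z, .p9, .hi, .p7, .hi, .p4, .hi, .p7, .hi, .p2, .hi, .p5, .xi,
  .y10, .y3, .p8, .xii, .xii, .y6, .p2]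

/-- `e2` -/
def we2 : List Ltr :=
  [.X0, .X1, .X2, .X6, .X7, .Z1, .Z3, .Z10, .p2, .hi, .xi, .p8, .xii, .p2, .hi, .p9, .xi, .p3, .xi, .h, .p, .y8,
  .xii, .p3, .xii, .p8, .xii, .y8, .p8, .y8, .p, .y3, .xii, .y2, .p5, .y9, .p5, .hi, .p7, .h, .p6, .y3, .p2,
  .y6]

/-- `e3` -/
def we3 : List Ltr :=
  [.X0, .X2, .X4, .Z4, .Z5, .Z8, .Z10, .p8, .y9, .h, .xii, .hi, .xi, .h, .xi, .y9, .p3, .y6, .p8, .xi, .hi, .xi,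
  .p3, .y6, .p, .y1, .xii, .p, .y1, .p3, .h, .p8, .hi, .p4, .hi, .p10, .h, .p5, .hi, .p3, .h, .y5, .p10, .xi,
  .p9]

/-- `t`, central in `2^(1+6)` -/
def wt : List Ltr :=
  [.Z1, .Z3, .Z4, .Z5, .Z7, .Z9, .Z10, .p2, .y4, .p9]

/-- `r = w1` -/
def wr : List Ltr :=
  [.taui, .xi, .p, .xi, .p9, .taui, .xi, .p2, .xi, .p8, .h, .X2, .X3, .X4, .X5, .X7, .X10, .Z2, .Z3, .Z4, .Z5,
  .Z6, .Z7, .Z9, .Z10, .p8, .y9, .h, .xii, .hi, .xi, .h, .xi, .y9, .p3, .y1, .p6, .y3, .xii, .y2, .p2, .y10,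
  .p10, .y5, .xi, .y2, .p8, .xi, .y5, .h, .p6, .hi, .p, .h, .p3, .y3, .p2, .y1, .hi, .p3, .xii, .p9, .xii, .tau,
  .p2, .xii, .p10, .xii, .tau]

/-- `w2` -/
def ww2 : List Ltr :=
  [.X0, .X2, .X4, .X5, .X6, .X7, .X8, .X9, .Z0, .Z1, .Z2, .Z5, .Z10, .y10, .hi, .p6, .y3, .p5, .xi, .xi, .y1,
  .hi]

/-- `w3` -/
def ww3 : List Ltr :=
  [.X0, .X1, .X2, .X3, .X4, .X5, .X6, .X7, .X9, .Z1, .Z2, .Z3, .Z4, .Z8, .Z9, .p10, .y9, .xii, .y9, .y1, .xii,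
  .p, .y1]

/-- `w4` -/
def ww4 : List Ltr :=
  [.X0, .X1, .X2, .X4, .Z2, .Z4, .Z6, .Z7, .Z9, .Z10, .p6, .h, .p10, .hi, .p, .h, .p5, .h, .p2, .h, .p8, .hi,
  .p2, .hi, .p, .hi, .p8, .h, .p3, .y1, .p2]

/-- `w5` -/
def ww5 : List Ltr :=
  [.X1, .X3, .X4, .X9, .Z1, .Z2, .Z7, .p3, .hi, .xi, .p8, .xii, .p2, .hi, .p9, .xi, .p3, .xi, .h, .p8, .h, .p6,
  .y1, .p10, .xi, .y1, .p, .hi, .p10, .hi, .p2, .hi, .p2, .y5, .y3, .xi, .y5, .y3, .p5, .h, .p, .y5, .xii, .p]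

/-- `k0` -/
def wk0 : List Ltr :=
  [.X0, .X3, .X4, .X8, .Z0, .Z1, .Z3, .Z4, .Z5, .Z6, .Z7, .z, .p9, .hi, .p3, .h, .p9, .hi, .p9, .hi, .p7, .h,
  .p4, .hi, .p2, .hi, .p6, .hi, .p7, .h, .p3, .y4, .y8, .p5]

/-- `k1` -/
def wk1 : List Ltr :=
  [.taui, .xi, .p, .xi, .p9, .taui, .xi, .p2, .xi, .p8, .h, .X0, .X2, .X3, .X9, .Z1, .Z3, .Z4, .Z5, .z, .y2,
  .y10, .p10, .h, .xi, .y6, .h, .xi, .p8, .h, .p8, .hi, .p7, .y8, .p8, .xi, .y9, .xi, .p3, .y8, .h, .p7, .hi,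
  .p, .y6, .xi, .p7, .y9, .xi, .hi, .p3, .xii, .p9, .xii, .tau, .p2, .xii, .p10, .xii, .tau]

/-- `n`, inverts `y1` -/
def wn : List Ltr :=
  [.X4, .X5, .X7, .X8, .X9, .X10, .Z1, .Z8, .Z9, .z, .p2, .hi, .xi, .p8, .xii, .p2, .hi, .p9, .xi, .p3, .xi, .h,
  .p4, .xii, .p3, .y3, .y10, .xii, .p3, .hi, .p8, .xi, .h, .y3, .p4, .h, .p2, .hi, .y1, .y10, .p5, .y9, .p9, .h,
  .xii, .h, .xii, .p7, .y1, .p4, .h, .p10, .xii, .y10, .xi, .h, .p6, .y3, .y6, .hi, .p, .hi, .p8, .y9, .p5, .y4,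
  .xi, .h]

/-- a cube root of `y1` -/
def w9 : List Ltr :=
  [.X0, .X2, .X3, .X5, .X6, .X8, .X9, .X10, .Z3, .Z7, .Z8, .Z9, .Z10, .p2, .hi, .xi, .p8, .xii, .p2, .hi, .p9,
  .xi, .p3, .xi, .h, .p9, .y3, .p8, .xii, .p7, .y7, .p7, .xii, .p10, .y7, .h, .p5, .h, .y5, .p2, .y3, .p6, .xi,
  .p3, .h, .y10, .p4, .h, .p9, .hi, .y1, .p10, .xi, .y1, .p8, .y9, .xii, .y9, .p6, .y2, .xi, .p5, .y10, .h, .y5,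
  .xi, .p2, .y3, .p9, .y3, .xi, .y4, .y7, .p7, .y8, .xii, .y3, .y1]

/-- powers of an element of order 3 -/
def wp (w : List Ltr) (k : ZMod 3) : List Ltr := if k = 0 then [] else if k = 1 then w else winv w

/-- products of powers of `e0, …, e3` -/
def p4 (a b c d : ZMod 3) : List Ltr := wp we0 a ++ wp we1 b ++ wp we2 c ++ wp we3 d

/-- the words of `e0, …, e7` -/
def we : Fin 8 → List Ltr := ![we0, we1, we2, we3, cj wr we0, cj wr we1, cj wr we2, cj wr we3]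

/-- the words of `w0, …, w5` -/
def ww : Fin 6 → List Ltr := ![[.z], wr, ww2, ww3, ww4, ww5]

/-- the words of `k0, k1` -/
def wk : Fin 2 → List Ltr := ![wk0, wk1]

/-- the word of a normal form in `P` -/
def nfw (v : Fin 8 → ZMod 3) (c : ZMod 3) : List Ltr :=
  p4 (v 0) (v 1) (v 2) (v 3) ++ (if v 4 = 0 ∧ v 5 = 0 ∧ v 6 = 0 ∧ v 7 = 0 then [] else
    cj wr (p4 (v 4) (v 5) (v 6) (v 7))) ++ wp wy1 c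

/-- powers of elements of order 2 or 4 with exponent `0, 1` -/
def w2p (w : List Ltr) (k : ZMod 2) : List Ltr := if k = 0 then [] else w

/-- the word of a normal form in `W` -/
def wnfw (m : Fin 6 → ZMod 2) (c : ZMod 2) : List Ltr :=
  w2p (ww 0) (m 0) ++ w2p (ww 1) (m 1) ++ w2p (ww 2) (m 2) ++ w2p (ww 3) (m 3) ++ w2p (ww 4) (m 4) ++ w2p (ww 5) (m 5) ++
    w2p wt c

end Cfsg.Agent.H863.U33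
end

-- part: H863/U33/ChkP_mg
section
set_option linter.all false

-- part: the checks
section
/-! # S5525, part F: kernel checks (helper863) -/

set_option autoImplicit false
set_option Elab.async false

namespace Cfsg.Agent.H863.U33

open Cfsg.Agent.BabyM.Conc Cfsg.Agent.BabyM.Inst Cfsg.Agent.BabyM.TransInv Cfsg.Agent.H819.U33 Cfsg.Agent.BM.StageW
open Cfsg.Agent.Monster.VecEngine Cfsg.Agent.BabyM.WordsInst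

private theorem batP_0 : Cfsg.Agent.BMx.Fast.allEq [
    ((wy1 ++ wy1 ++ wy1), []),
    ((we 0 ++ we 0 ++ we 0), []),
    ((we 0 ++ wy1), (wy1 ++ we 0)),
    ((we 1 ++ we 1 ++ we 1), [])] = true := by decide +kernel

theorem c_y3 : chk (wy1 ++ wy1 ++ wy1) [] = true :=
  Cfsg.Agent.BMx.Bridge.hd batP_0

theorem c_e3_0 : chk (we 0 ++ we 0 ++ we 0) [] = true :=
  Cfsg.Agent.BMx.Bridge.hd (Cfsg.Agent.BMx.Bridge.tl batP_0)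

theorem c_ey_0 : chk (we 0 ++ wy1) (wy1 ++ we 0) = true :=
  Cfsg.Agent.BMx.Bridge.hd (Cfsg.Agent.BMx.Bridge.tl (Cfsg.Agent.BMx.Bridge.tl batP_0))

theorem c_e3_1 : chk (we 1 ++ we 1 ++ we 1) [] = true :=
  Cfsg.Agent.BMx.Bridge.hd (Cfsg.Agent.BMx.Bridge.tl (Cfsg.Agent.BMx.Bridge.tl (Cfsg.Agent.BMx.Bridge.tl batP_0)))

private theorem batP_1 : Cfsg.Agent.BMx.Fast.allEq [
    ((we 1 ++ wy1), (wy1 ++ we 1)),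
    ((we 2 ++ we 2 ++ we 2), []),
    ((we 2 ++ wy1), (wy1 ++ we 2)),
    ((we 3 ++ we 3 ++ we 3), [])] = true := by decide +kernel

theorem c_ey_1 : chk (we 1 ++ wy1) (wy1 ++ we 1) = true :=
  Cfsg.Agent.BMx.Bridge.hd batP_1

theorem c_e3_2 : chk (we 2 ++ we 2 ++ we 2) [] = true :=
  Cfsg.Agent.BMx.Bridge.hd (Cfsg.Agent.BMx.Bridge.tl batP_1)

theorem c_ey_2 : chk (we 2 ++ wy1) (wy1 ++ we 2) = true :=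
  Cfsg.Agent.BMx.Bridge.hd (Cfsg.Agent.BMx.Bridge.tl (Cfsg.Agent.BMx.Bridge.tl batP_1))

theorem c_e3_3 : chk (we 3 ++ we 3 ++ we 3) [] = true :=
  Cfsg.Agent.BMx.Bridge.hd (Cfsg.Agent.BMx.Bridge.tl (Cfsg.Agent.BMx.Bridge.tl (Cfsg.Agent.BMx.Bridge.tl batP_1)))

private theorem batP_2 : Cfsg.Agent.BMx.Fast.allEq [
    ((we 3 ++ wy1), (wy1 ++ we 3)),
    ((we 0 ++ we 0), (wp wy1 (fm 0 0) ++ (we 0 ++ we 0))),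
    ((we 0 ++ we 1), (wp wy1 (fm 0 1) ++ (we 1 ++ we 0))),
    ((we 0 ++ we 2), (wp wy1 (fm 0 2) ++ (we 2 ++ we 0)))] = true := by decide +kernel

theorem c_ey_3 : chk (we 3 ++ wy1) (wy1 ++ we 3) = true :=
  Cfsg.Agent.BMx.Bridge.hd batP_2

theorem c_ee_00 : chk (we 0 ++ we 0) (wp wy1 (fm 0 0) ++ (we 0 ++ we 0)) = true :=
  Cfsg.Agent.BMx.Bridge.hd (Cfsg.Agent.BMx.Bridge.tl batP_2)

theorem c_ee_01 : chk (we 0 ++ we 1) (wp wy1 (fm 0 1) ++ (we 1 ++ we 0)) = true :=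
  Cfsg.Agent.BMx.Bridge.hd (Cfsg.Agent.BMx.Bridge.tl (Cfsg.Agent.BMx.Bridge.tl batP_2))

theorem c_ee_02 : chk (we 0 ++ we 2) (wp wy1 (fm 0 2) ++ (we 2 ++ we 0)) = true :=
  Cfsg.Agent.BMx.Bridge.hd (Cfsg.Agent.BMx.Bridge.tl (Cfsg.Agent.BMx.Bridge.tl (Cfsg.Agent.BMx.Bridge.tl batP_2)))

private theorem batP_3 : Cfsg.Agent.BMx.Fast.allEq [
    ((we 0 ++ we 3), (wp wy1 (fm 0 3) ++ (we 3 ++ we 0))),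
    ((we 1 ++ we 1), (wp wy1 (fm 1 1) ++ (we 1 ++ we 1))),
    ((we 1 ++ we 2), (wp wy1 (fm 1 2) ++ (we 2 ++ we 1))),
    ((we 1 ++ we 3), (wp wy1 (fm 1 3) ++ (we 3 ++ we 1)))] = true := by decide +kernel

theorem c_ee_03 : chk (we 0 ++ we 3) (wp wy1 (fm 0 3) ++ (we 3 ++ we 0)) = true :=
  Cfsg.Agent.BMx.Bridge.hd batP_3

theorem c_ee_11 : chk (we 1 ++ we 1) (wp wy1 (fm 1 1) ++ (we 1 ++ we 1)) = true :=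
  Cfsg.Agent.BMx.Bridge.hd (Cfsg.Agent.BMx.Bridge.tl batP_3)

theorem c_ee_12 : chk (we 1 ++ we 2) (wp wy1 (fm 1 2) ++ (we 2 ++ we 1)) = true :=
  Cfsg.Agent.BMx.Bridge.hd (Cfsg.Agent.BMx.Bridge.tl (Cfsg.Agent.BMx.Bridge.tl batP_3))

theorem c_ee_13 : chk (we 1 ++ we 3) (wp wy1 (fm 1 3) ++ (we 3 ++ we 1)) = true :=
  Cfsg.Agent.BMx.Bridge.hd (Cfsg.Agent.BMx.Bridge.tl (Cfsg.Agent.BMx.Bridge.tl (Cfsg.Agent.BMx.Bridge.tl batP_3)))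

private theorem batP_4 : Cfsg.Agent.BMx.Fast.allEq [
    ((we 2 ++ we 2), (wp wy1 (fm 2 2) ++ (we 2 ++ we 2))),
    ((we 2 ++ we 3), (wp wy1 (fm 2 3) ++ (we 3 ++ we 2))),
    ((we 3 ++ we 3), (wp wy1 (fm 3 3) ++ (we 3 ++ we 3))),
    ((ww 0 ++ wk 0), (wk 0 ++ wnfw (Kw 0 0) (Ke 0 0)))] = true := by decide +kernel

theorem c_ee_22 : chk (we 2 ++ we 2) (wp wy1 (fm 2 2) ++ (we 2 ++ we 2)) = true :=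
  Cfsg.Agent.BMx.Bridge.hd batP_4

theorem c_ee_23 : chk (we 2 ++ we 3) (wp wy1 (fm 2 3) ++ (we 3 ++ we 2)) = true :=
  Cfsg.Agent.BMx.Bridge.hd (Cfsg.Agent.BMx.Bridge.tl batP_4)

theorem c_ee_33 : chk (we 3 ++ we 3) (wp wy1 (fm 3 3) ++ (we 3 ++ we 3)) = true :=
  Cfsg.Agent.BMx.Bridge.hd (Cfsg.Agent.BMx.Bridge.tl (Cfsg.Agent.BMx.Bridge.tl batP_4))

theorem c_kw_00 : chk (ww 0 ++ wk 0) (wk 0 ++ wnfw (Kw 0 0) (Ke 0 0)) = true :=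
  Cfsg.Agent.BMx.Bridge.hd (Cfsg.Agent.BMx.Bridge.tl (Cfsg.Agent.BMx.Bridge.tl (Cfsg.Agent.BMx.Bridge.tl batP_4)))

private theorem batP_5 : Cfsg.Agent.BMx.Fast.allEq [
    ((ww 1 ++ wk 0), (wk 0 ++ wnfw (Kw 0 1) (Ke 0 1))),
    ((ww 2 ++ wk 0), (wk 0 ++ wnfw (Kw 0 2) (Ke 0 2))),
    ((ww 3 ++ wk 0), (wk 0 ++ wnfw (Kw 0 3) (Ke 0 3))),
    ((ww 4 ++ wk 0), (wk 0 ++ wnfw (Kw 0 4) (Ke 0 4)))] = true := by decide +kernel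

theorem c_kw_01 : chk (ww 1 ++ wk 0) (wk 0 ++ wnfw (Kw 0 1) (Ke 0 1)) = true :=
  Cfsg.Agent.BMx.Bridge.hd batP_5

theorem c_kw_02 : chk (ww 2 ++ wk 0) (wk 0 ++ wnfw (Kw 0 2) (Ke 0 2)) = true :=
  Cfsg.Agent.BMx.Bridge.hd (Cfsg.Agent.BMx.Bridge.tl batP_5)

theorem c_kw_03 : chk (ww 3 ++ wk 0) (wk 0 ++ wnfw (Kw 0 3) (Ke 0 3)) = true :=
  Cfsg.Agent.BMx.Bridge.hd (Cfsg.Agent.BMx.Bridge.tl (Cfsg.Agent.BMx.Bridge.tl batP_5))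

theorem c_kw_04 : chk (ww 4 ++ wk 0) (wk 0 ++ wnfw (Kw 0 4) (Ke 0 4)) = true :=
  Cfsg.Agent.BMx.Bridge.hd (Cfsg.Agent.BMx.Bridge.tl (Cfsg.Agent.BMx.Bridge.tl (Cfsg.Agent.BMx.Bridge.tl batP_5)))

private theorem batP_6 : Cfsg.Agent.BMx.Fast.allEq [
    ((ww 5 ++ wk 0), (wk 0 ++ wnfw (Kw 0 5) (Ke 0 5))),
    ((ww 0 ++ wk 1), (wk 1 ++ wnfw (Kw 1 0) (Ke 1 0))),
    ((ww 1 ++ wk 1), (wk 1 ++ wnfw (Kw 1 1) (Ke 1 1))),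
    ((ww 2 ++ wk 1), (wk 1 ++ wnfw (Kw 1 2) (Ke 1 2)))] = true := by decide +kernel

theorem c_kw_05 : chk (ww 5 ++ wk 0) (wk 0 ++ wnfw (Kw 0 5) (Ke 0 5)) = true :=
  Cfsg.Agent.BMx.Bridge.hd batP_6

theorem c_kw_10 : chk (ww 0 ++ wk 1) (wk 1 ++ wnfw (Kw 1 0) (Ke 1 0)) = true :=
  Cfsg.Agent.BMx.Bridge.hd (Cfsg.Agent.BMx.Bridge.tl batP_6)

theorem c_kw_11 : chk (ww 1 ++ wk 1) (wk 1 ++ wnfw (Kw 1 1) (Ke 1 1)) = true :=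
  Cfsg.Agent.BMx.Bridge.hd (Cfsg.Agent.BMx.Bridge.tl (Cfsg.Agent.BMx.Bridge.tl batP_6))

theorem c_kw_12 : chk (ww 2 ++ wk 1) (wk 1 ++ wnfw (Kw 1 2) (Ke 1 2)) = true :=
  Cfsg.Agent.BMx.Bridge.hd (Cfsg.Agent.BMx.Bridge.tl (Cfsg.Agent.BMx.Bridge.tl (Cfsg.Agent.BMx.Bridge.tl batP_6)))

private theorem batP_7 : Cfsg.Agent.BMx.Fast.allEq [
    ((ww 3 ++ wk 1), (wk 1 ++ wnfw (Kw 1 3) (Ke 1 3))),
    ((ww 4 ++ wk 1), (wk 1 ++ wnfw (Kw 1 4) (Ke 1 4))),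
    ((ww 5 ++ wk 1), (wk 1 ++ wnfw (Kw 1 5) (Ke 1 5))),
    ((ww 0 ++ wn), (wn ++ wnfw (Nw 0) (Ne 0)))] = true := by decide +kernel

theorem c_kw_13 : chk (ww 3 ++ wk 1) (wk 1 ++ wnfw (Kw 1 3) (Ke 1 3)) = true :=
  Cfsg.Agent.BMx.Bridge.hd batP_7

theorem c_kw_14 : chk (ww 4 ++ wk 1) (wk 1 ++ wnfw (Kw 1 4) (Ke 1 4)) = true :=
  Cfsg.Agent.BMx.Bridge.hd (Cfsg.Agent.BMx.Bridge.tl batP_7)

theorem c_kw_15 : chk (ww 5 ++ wk 1) (wk 1 ++ wnfw (Kw 1 5) (Ke 1 5)) = true :=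
  Cfsg.Agent.BMx.Bridge.hd (Cfsg.Agent.BMx.Bridge.tl (Cfsg.Agent.BMx.Bridge.tl batP_7))

theorem c_nw_0 : chk (ww 0 ++ wn) (wn ++ wnfw (Nw 0) (Ne 0)) = true :=
  Cfsg.Agent.BMx.Bridge.hd (Cfsg.Agent.BMx.Bridge.tl (Cfsg.Agent.BMx.Bridge.tl (Cfsg.Agent.BMx.Bridge.tl batP_7)))

private theorem batP_8 : Cfsg.Agent.BMx.Fast.allEq [
    ((ww 1 ++ wn), (wn ++ wnfw (Nw 1) (Ne 1))),
    ((ww 2 ++ wn), (wn ++ wnfw (Nw 2) (Ne 2))),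
    ((ww 3 ++ wn), (wn ++ wnfw (Nw 3) (Ne 3))),
    ((ww 4 ++ wn), (wn ++ wnfw (Nw 4) (Ne 4)))] = true := by decide +kernel

theorem c_nw_1 : chk (ww 1 ++ wn) (wn ++ wnfw (Nw 1) (Ne 1)) = true :=
  Cfsg.Agent.BMx.Bridge.hd batP_8

theorem c_nw_2 : chk (ww 2 ++ wn) (wn ++ wnfw (Nw 2) (Ne 2)) = true :=
  Cfsg.Agent.BMx.Bridge.hd (Cfsg.Agent.BMx.Bridge.tl batP_8)

theorem c_nw_3 : chk (ww 3 ++ wn) (wn ++ wnfw (Nw 3) (Ne 3)) = true :=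
  Cfsg.Agent.BMx.Bridge.hd (Cfsg.Agent.BMx.Bridge.tl (Cfsg.Agent.BMx.Bridge.tl batP_8))

theorem c_nw_4 : chk (ww 4 ++ wn) (wn ++ wnfw (Nw 4) (Ne 4)) = true :=
  Cfsg.Agent.BMx.Bridge.hd (Cfsg.Agent.BMx.Bridge.tl (Cfsg.Agent.BMx.Bridge.tl (Cfsg.Agent.BMx.Bridge.tl batP_8)))

private theorem batP_9 : Cfsg.Agent.BMx.Fast.allEq [
    ((ww 5 ++ wn), (wn ++ wnfw (Nw 5) (Ne 5))),
    ((w9 ++ w9 ++ w9), wy1)] = true := by decide +kernel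

theorem c_nw_5 : chk (ww 5 ++ wn) (wn ++ wnfw (Nw 5) (Ne 5)) = true :=
  Cfsg.Agent.BMx.Bridge.hd batP_9

theorem c_w9 : chk (w9 ++ w9 ++ w9) wy1 = true :=
  Cfsg.Agent.BMx.Bridge.hd (Cfsg.Agent.BMx.Bridge.tl batP_9)

/-- a word moves a vector -/
noncomputable def mv (v : List Ltr) (x : Pl) (l : ℕ) : Bool :=
  and (U.testBit l) (runL (v.map Ltr.prog) x fun a => !decide (val a l = val x l))

theorem c_y1 : mv wy1 vB 14 = true := by decide +kernel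

end Cfsg.Agent.H863.U33
end
end

-- part: H863/U33/ChkV
section
set_option linter.all false

-- part: the checks
section
/-! # S5525, part F: kernel checks (helper863) -/

set_option autoImplicit false
set_option Elab.async false

namespace Cfsg.Agent.H863.U33

open Cfsg.Agent.BabyM.Conc Cfsg.Agent.BabyM.Inst Cfsg.Agent.BabyM.TransInv Cfsg.Agent.H819.U33 Cfsg.Agent.BM.StageW
open Cfsg.Agent.Monster.VecEngine Cfsg.Agent.BabyM.WordsInst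

private theorem batV_0 : Cfsg.Agent.BMx.Fast.allEq [
    ((ww 0 ++ ww 0), (w2p wt (bc 0 0) ++ (ww 0 ++ ww 0))),
    ((ww 0 ++ ww 1), (w2p wt (bc 0 1) ++ (ww 1 ++ ww 0))),
    ((ww 0 ++ ww 2), (w2p wt (bc 0 2) ++ (ww 2 ++ ww 0))),
    ((ww 0 ++ ww 3), (w2p wt (bc 0 3) ++ (ww 3 ++ ww 0))),
    ((ww 0 ++ ww 4), (w2p wt (bc 0 4) ++ (ww 4 ++ ww 0))),
    ((ww 0 ++ ww 5), (w2p wt (bc 0 5) ++ (ww 5 ++ ww 0))),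
    ((ww 1 ++ ww 1), (w2p wt (bc 1 1) ++ (ww 1 ++ ww 1))),
    ((ww 1 ++ ww 2), (w2p wt (bc 1 2) ++ (ww 2 ++ ww 1)))] = true := by decide +kernel

theorem c_ww_00 : chk (ww 0 ++ ww 0) (w2p wt (bc 0 0) ++ (ww 0 ++ ww 0)) = true :=
  Cfsg.Agent.BMx.Bridge.hd batV_0

theorem c_ww_01 : chk (ww 0 ++ ww 1) (w2p wt (bc 0 1) ++ (ww 1 ++ ww 0)) = true :=
  Cfsg.Agent.BMx.Bridge.hd (Cfsg.Agent.BMx.Bridge.tl batV_0)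

theorem c_ww_02 : chk (ww 0 ++ ww 2) (w2p wt (bc 0 2) ++ (ww 2 ++ ww 0)) = true :=
  Cfsg.Agent.BMx.Bridge.hd (Cfsg.Agent.BMx.Bridge.tl (Cfsg.Agent.BMx.Bridge.tl batV_0))

theorem c_ww_03 : chk (ww 0 ++ ww 3) (w2p wt (bc 0 3) ++ (ww 3 ++ ww 0)) = true :=
  Cfsg.Agent.BMx.Bridge.hd (Cfsg.Agent.BMx.Bridge.tl (Cfsg.Agent.BMx.Bridge.tl (Cfsg.Agent.BMx.Bridge.tl batV_0)))

theorem c_ww_04 : chk (ww 0 ++ ww 4) (w2p wt (bc 0 4) ++ (ww 4 ++ ww 0)) = true :=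
  Cfsg.Agent.BMx.Bridge.hd (Cfsg.Agent.BMx.Bridge.tl (Cfsg.Agent.BMx.Bridge.tl (Cfsg.Agent.BMx.Bridge.tl (Cfsg.Agent.BMx.Bridge.tl batV_0))))

theorem c_ww_05 : chk (ww 0 ++ ww 5) (w2p wt (bc 0 5) ++ (ww 5 ++ ww 0)) = true :=
  Cfsg.Agent.BMx.Bridge.hd (Cfsg.Agent.BMx.Bridge.tl (Cfsg.Agent.BMx.Bridge.tl (Cfsg.Agent.BMx.Bridge.tl (Cfsg.Agent.BMx.Bridge.tl (Cfsg.Agent.BMx.Bridge.tl batV_0)))))

theorem c_ww_11 : chk (ww 1 ++ ww 1) (w2p wt (bc 1 1) ++ (ww 1 ++ ww 1)) = true :=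
  Cfsg.Agent.BMx.Bridge.hd (Cfsg.Agent.BMx.Bridge.tl (Cfsg.Agent.BMx.Bridge.tl (Cfsg.Agent.BMx.Bridge.tl (Cfsg.Agent.BMx.Bridge.tl (Cfsg.Agent.BMx.Bridge.tl (Cfsg.Agent.BMx.Bridge.tl batV_0))))))

theorem c_ww_12 : chk (ww 1 ++ ww 2) (w2p wt (bc 1 2) ++ (ww 2 ++ ww 1)) = true :=
  Cfsg.Agent.BMx.Bridge.hd (Cfsg.Agent.BMx.Bridge.tl (Cfsg.Agent.BMx.Bridge.tl (Cfsg.Agent.BMx.Bridge.tl (Cfsg.Agent.BMx.Bridge.tl (Cfsg.Agent.BMx.Bridge.tl (Cfsg.Agent.BMx.Bridge.tl (Cfsg.Agent.BMx.Bridge.tl batV_0)))))))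

private theorem batV_1 : Cfsg.Agent.BMx.Fast.allEq [
    ((ww 1 ++ ww 3), (w2p wt (bc 1 3) ++ (ww 3 ++ ww 1))),
    ((ww 1 ++ ww 4), (w2p wt (bc 1 4) ++ (ww 4 ++ ww 1))),
    ((ww 1 ++ ww 5), (w2p wt (bc 1 5) ++ (ww 5 ++ ww 1))),
    ((ww 2 ++ ww 2), (w2p wt (bc 2 2) ++ (ww 2 ++ ww 2))),
    ((ww 2 ++ ww 3), (w2p wt (bc 2 3) ++ (ww 3 ++ ww 2))),
    ((ww 2 ++ ww 4), (w2p wt (bc 2 4) ++ (ww 4 ++ ww 2))),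
    ((ww 2 ++ ww 5), (w2p wt (bc 2 5) ++ (ww 5 ++ ww 2))),
    ((ww 3 ++ ww 3), (w2p wt (bc 3 3) ++ (ww 3 ++ ww 3)))] = true := by decide +kernel

theorem c_ww_13 : chk (ww 1 ++ ww 3) (w2p wt (bc 1 3) ++ (ww 3 ++ ww 1)) = true :=
  Cfsg.Agent.BMx.Bridge.hd batV_1

theorem c_ww_14 : chk (ww 1 ++ ww 4) (w2p wt (bc 1 4) ++ (ww 4 ++ ww 1)) = true :=
  Cfsg.Agent.BMx.Bridge.hd (Cfsg.Agent.BMx.Bridge.tl batV_1)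

theorem c_ww_15 : chk (ww 1 ++ ww 5) (w2p wt (bc 1 5) ++ (ww 5 ++ ww 1)) = true :=
  Cfsg.Agent.BMx.Bridge.hd (Cfsg.Agent.BMx.Bridge.tl (Cfsg.Agent.BMx.Bridge.tl batV_1))

theorem c_ww_22 : chk (ww 2 ++ ww 2) (w2p wt (bc 2 2) ++ (ww 2 ++ ww 2)) = true :=
  Cfsg.Agent.BMx.Bridge.hd (Cfsg.Agent.BMx.Bridge.tl (Cfsg.Agent.BMx.Bridge.tl (Cfsg.Agent.BMx.Bridge.tl batV_1)))

theorem c_ww_23 : chk (ww 2 ++ ww 3) (w2p wt (bc 2 3) ++ (ww 3 ++ ww 2)) = true :=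
  Cfsg.Agent.BMx.Bridge.hd (Cfsg.Agent.BMx.Bridge.tl (Cfsg.Agent.BMx.Bridge.tl (Cfsg.Agent.BMx.Bridge.tl (Cfsg.Agent.BMx.Bridge.tl batV_1))))

theorem c_ww_24 : chk (ww 2 ++ ww 4) (w2p wt (bc 2 4) ++ (ww 4 ++ ww 2)) = true :=
  Cfsg.Agent.BMx.Bridge.hd (Cfsg.Agent.BMx.Bridge.tl (Cfsg.Agent.BMx.Bridge.tl (Cfsg.Agent.BMx.Bridge.tl (Cfsg.Agent.BMx.Bridge.tl (Cfsg.Agent.BMx.Bridge.tl batV_1)))))

theorem c_ww_25 : chk (ww 2 ++ ww 5) (w2p wt (bc 2 5) ++ (ww 5 ++ ww 2)) = true :=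
  Cfsg.Agent.BMx.Bridge.hd (Cfsg.Agent.BMx.Bridge.tl (Cfsg.Agent.BMx.Bridge.tl (Cfsg.Agent.BMx.Bridge.tl (Cfsg.Agent.BMx.Bridge.tl (Cfsg.Agent.BMx.Bridge.tl (Cfsg.Agent.BMx.Bridge.tl batV_1))))))

theorem c_ww_33 : chk (ww 3 ++ ww 3) (w2p wt (bc 3 3) ++ (ww 3 ++ ww 3)) = true :=
  Cfsg.Agent.BMx.Bridge.hd (Cfsg.Agent.BMx.Bridge.tl (Cfsg.Agent.BMx.Bridge.tl (Cfsg.Agent.BMx.Bridge.tl (Cfsg.Agent.BMx.Bridge.tl (Cfsg.Agent.BMx.Bridge.tl (Cfsg.Agent.BMx.Bridge.tl (Cfsg.Agent.BMx.Bridge.tl batV_1)))))))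

private theorem batV_2 : Cfsg.Agent.BMx.Fast.allEq [
    ((ww 3 ++ ww 4), (w2p wt (bc 3 4) ++ (ww 4 ++ ww 3))),
    ((ww 3 ++ ww 5), (w2p wt (bc 3 5) ++ (ww 5 ++ ww 3))),
    ((ww 4 ++ ww 4), (w2p wt (bc 4 4) ++ (ww 4 ++ ww 4))),
    ((ww 4 ++ ww 5), (w2p wt (bc 4 5) ++ (ww 5 ++ ww 4))),
    ((ww 5 ++ ww 5), (w2p wt (bc 5 5) ++ (ww 5 ++ ww 5))),
    ((ww 0 ++ ww 0), (w2p wt (sqw 0))),
    ((ww 1 ++ ww 1), (w2p wt (sqw 1))),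
    ((ww 2 ++ ww 2), (w2p wt (sqw 2)))] = true := by decide +kernel

theorem c_ww_34 : chk (ww 3 ++ ww 4) (w2p wt (bc 3 4) ++ (ww 4 ++ ww 3)) = true :=
  Cfsg.Agent.BMx.Bridge.hd batV_2

theorem c_ww_35 : chk (ww 3 ++ ww 5) (w2p wt (bc 3 5) ++ (ww 5 ++ ww 3)) = true :=
  Cfsg.Agent.BMx.Bridge.hd (Cfsg.Agent.BMx.Bridge.tl batV_2)

theorem c_ww_44 : chk (ww 4 ++ ww 4) (w2p wt (bc 4 4) ++ (ww 4 ++ ww 4)) = true :=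
  Cfsg.Agent.BMx.Bridge.hd (Cfsg.Agent.BMx.Bridge.tl (Cfsg.Agent.BMx.Bridge.tl batV_2))

theorem c_ww_45 : chk (ww 4 ++ ww 5) (w2p wt (bc 4 5) ++ (ww 5 ++ ww 4)) = true :=
  Cfsg.Agent.BMx.Bridge.hd (Cfsg.Agent.BMx.Bridge.tl (Cfsg.Agent.BMx.Bridge.tl (Cfsg.Agent.BMx.Bridge.tl batV_2)))

theorem c_ww_55 : chk (ww 5 ++ ww 5) (w2p wt (bc 5 5) ++ (ww 5 ++ ww 5)) = true :=
  Cfsg.Agent.BMx.Bridge.hd (Cfsg.Agent.BMx.Bridge.tl (Cfsg.Agent.BMx.Bridge.tl (Cfsg.Agent.BMx.Bridge.tl (Cfsg.Agent.BMx.Bridge.tl batV_2))))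

theorem c_wsq_0 : chk (ww 0 ++ ww 0) (w2p wt (sqw 0)) = true :=
  Cfsg.Agent.BMx.Bridge.hd (Cfsg.Agent.BMx.Bridge.tl (Cfsg.Agent.BMx.Bridge.tl (Cfsg.Agent.BMx.Bridge.tl (Cfsg.Agent.BMx.Bridge.tl (Cfsg.Agent.BMx.Bridge.tl batV_2)))))

theorem c_wsq_1 : chk (ww 1 ++ ww 1) (w2p wt (sqw 1)) = true :=
  Cfsg.Agent.BMx.Bridge.hd (Cfsg.Agent.BMx.Bridge.tl (Cfsg.Agent.BMx.Bridge.tl (Cfsg.Agent.BMx.Bridge.tl (Cfsg.Agent.BMx.Bridge.tl (Cfsg.Agent.BMx.Bridge.tl (Cfsg.Agent.BMx.Bridge.tl batV_2))))))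

theorem c_wsq_2 : chk (ww 2 ++ ww 2) (w2p wt (sqw 2)) = true :=
  Cfsg.Agent.BMx.Bridge.hd (Cfsg.Agent.BMx.Bridge.tl (Cfsg.Agent.BMx.Bridge.tl (Cfsg.Agent.BMx.Bridge.tl (Cfsg.Agent.BMx.Bridge.tl (Cfsg.Agent.BMx.Bridge.tl (Cfsg.Agent.BMx.Bridge.tl (Cfsg.Agent.BMx.Bridge.tl batV_2)))))))

private theorem batV_3 : Cfsg.Agent.BMx.Fast.allEq [
    ((ww 3 ++ ww 3), (w2p wt (sqw 3))),
    ((ww 4 ++ ww 4), (w2p wt (sqw 4))),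
    ((ww 5 ++ ww 5), (w2p wt (sqw 5))),
    ((wt ++ wt), []),
    ((wt ++ wy1), (wy1 ++ wt)),
    ((ww 0 ++ wt), (wt ++ ww 0)),
    ((ww 0 ++ wy1), (wy1 ++ ww 0)),
    ((ww 1 ++ wt), (wt ++ ww 1))] = true := by decide +kernel

theorem c_wsq_3 : chk (ww 3 ++ ww 3) (w2p wt (sqw 3)) = true :=
  Cfsg.Agent.BMx.Bridge.hd batV_3

theorem c_wsq_4 : chk (ww 4 ++ ww 4) (w2p wt (sqw 4)) = true :=
  Cfsg.Agent.BMx.Bridge.hd (Cfsg.Agent.BMx.Bridge.tl batV_3)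

theorem c_wsq_5 : chk (ww 5 ++ ww 5) (w2p wt (sqw 5)) = true :=
  Cfsg.Agent.BMx.Bridge.hd (Cfsg.Agent.BMx.Bridge.tl (Cfsg.Agent.BMx.Bridge.tl batV_3))

theorem c_t2 : chk (wt ++ wt) [] = true :=
  Cfsg.Agent.BMx.Bridge.hd (Cfsg.Agent.BMx.Bridge.tl (Cfsg.Agent.BMx.Bridge.tl (Cfsg.Agent.BMx.Bridge.tl batV_3)))

theorem c_ty : chk (wt ++ wy1) (wy1 ++ wt) = true :=
  Cfsg.Agent.BMx.Bridge.hd (Cfsg.Agent.BMx.Bridge.tl (Cfsg.Agent.BMx.Bridge.tl (Cfsg.Agent.BMx.Bridge.tl (Cfsg.Agent.BMx.Bridge.tl batV_3))))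

theorem c_wt_0 : chk (ww 0 ++ wt) (wt ++ ww 0) = true :=
  Cfsg.Agent.BMx.Bridge.hd (Cfsg.Agent.BMx.Bridge.tl (Cfsg.Agent.BMx.Bridge.tl (Cfsg.Agent.BMx.Bridge.tl (Cfsg.Agent.BMx.Bridge.tl (Cfsg.Agent.BMx.Bridge.tl batV_3)))))

theorem c_wy_0 : chk (ww 0 ++ wy1) (wy1 ++ ww 0) = true :=
  Cfsg.Agent.BMx.Bridge.hd (Cfsg.Agent.BMx.Bridge.tl (Cfsg.Agent.BMx.Bridge.tl (Cfsg.Agent.BMx.Bridge.tl (Cfsg.Agent.BMx.Bridge.tl (Cfsg.Agent.BMx.Bridge.tl (Cfsg.Agent.BMx.Bridge.tl batV_3))))))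

theorem c_wt_1 : chk (ww 1 ++ wt) (wt ++ ww 1) = true :=
  Cfsg.Agent.BMx.Bridge.hd (Cfsg.Agent.BMx.Bridge.tl (Cfsg.Agent.BMx.Bridge.tl (Cfsg.Agent.BMx.Bridge.tl (Cfsg.Agent.BMx.Bridge.tl (Cfsg.Agent.BMx.Bridge.tl (Cfsg.Agent.BMx.Bridge.tl (Cfsg.Agent.BMx.Bridge.tl batV_3)))))))

private theorem batV_4 : Cfsg.Agent.BMx.Fast.allEq [
    ((ww 1 ++ wy1), (wy1 ++ ww 1)),
    ((ww 2 ++ wt), (wt ++ ww 2)),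
    ((ww 2 ++ wy1), (wy1 ++ ww 2)),
    ((ww 3 ++ wt), (wt ++ ww 3)),
    ((ww 3 ++ wy1), (wy1 ++ ww 3)),
    ((ww 4 ++ wt), (wt ++ ww 4)),
    ((ww 4 ++ wy1), (wy1 ++ ww 4)),
    ((ww 5 ++ wt), (wt ++ ww 5))] = true := by decide +kernel

theorem c_wy_1 : chk (ww 1 ++ wy1) (wy1 ++ ww 1) = true :=
  Cfsg.Agent.BMx.Bridge.hd batV_4

theorem c_wt_2 : chk (ww 2 ++ wt) (wt ++ ww 2) = true :=
  Cfsg.Agent.BMx.Bridge.hd (Cfsg.Agent.BMx.Bridge.tl batV_4)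

theorem c_wy_2 : chk (ww 2 ++ wy1) (wy1 ++ ww 2) = true :=
  Cfsg.Agent.BMx.Bridge.hd (Cfsg.Agent.BMx.Bridge.tl (Cfsg.Agent.BMx.Bridge.tl batV_4))

theorem c_wt_3 : chk (ww 3 ++ wt) (wt ++ ww 3) = true :=
  Cfsg.Agent.BMx.Bridge.hd (Cfsg.Agent.BMx.Bridge.tl (Cfsg.Agent.BMx.Bridge.tl (Cfsg.Agent.BMx.Bridge.tl batV_4)))

theorem c_wy_3 : chk (ww 3 ++ wy1) (wy1 ++ ww 3) = true :=
  Cfsg.Agent.BMx.Bridge.hd (Cfsg.Agent.BMx.Bridge.tl (Cfsg.Agent.BMx.Bridge.tl (Cfsg.Agent.BMx.Bridge.tl (Cfsg.Agent.BMx.Bridge.tl batV_4))))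

theorem c_wt_4 : chk (ww 4 ++ wt) (wt ++ ww 4) = true :=
  Cfsg.Agent.BMx.Bridge.hd (Cfsg.Agent.BMx.Bridge.tl (Cfsg.Agent.BMx.Bridge.tl (Cfsg.Agent.BMx.Bridge.tl (Cfsg.Agent.BMx.Bridge.tl (Cfsg.Agent.BMx.Bridge.tl batV_4)))))

theorem c_wy_4 : chk (ww 4 ++ wy1) (wy1 ++ ww 4) = true :=
  Cfsg.Agent.BMx.Bridge.hd (Cfsg.Agent.BMx.Bridge.tl (Cfsg.Agent.BMx.Bridge.tl (Cfsg.Agent.BMx.Bridge.tl (Cfsg.Agent.BMx.Bridge.tl (Cfsg.Agent.BMx.Bridge.tl (Cfsg.Agent.BMx.Bridge.tl batV_4))))))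

theorem c_wt_5 : chk (ww 5 ++ wt) (wt ++ ww 5) = true :=
  Cfsg.Agent.BMx.Bridge.hd (Cfsg.Agent.BMx.Bridge.tl (Cfsg.Agent.BMx.Bridge.tl (Cfsg.Agent.BMx.Bridge.tl (Cfsg.Agent.BMx.Bridge.tl (Cfsg.Agent.BMx.Bridge.tl (Cfsg.Agent.BMx.Bridge.tl (Cfsg.Agent.BMx.Bridge.tl batV_4)))))))

private theorem batV_5 : Cfsg.Agent.BMx.Fast.allEq [
    ((ww 5 ++ wy1), (wy1 ++ ww 5)),
    ((wk 0 ++ wt), (wt ++ wk 0)),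
    ((wk 0 ++ wy1), (wy1 ++ wk 0)),
    ((wk 1 ++ wt), (wt ++ wk 1)),
    ((wk 1 ++ wy1), (wy1 ++ wk 1)),
    ((wn ++ wt), (wt ++ wn)),
    ((wy1 ++ wn), (wn ++ winv wy1))] = true := by decide +kernel

theorem c_wy_5 : chk (ww 5 ++ wy1) (wy1 ++ ww 5) = true :=
  Cfsg.Agent.BMx.Bridge.hd batV_5

theorem c_kt_0 : chk (wk 0 ++ wt) (wt ++ wk 0) = true :=
  Cfsg.Agent.BMx.Bridge.hd (Cfsg.Agent.BMx.Bridge.tl batV_5)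

theorem c_ky_0 : chk (wk 0 ++ wy1) (wy1 ++ wk 0) = true :=
  Cfsg.Agent.BMx.Bridge.hd (Cfsg.Agent.BMx.Bridge.tl (Cfsg.Agent.BMx.Bridge.tl batV_5))

theorem c_kt_1 : chk (wk 1 ++ wt) (wt ++ wk 1) = true :=
  Cfsg.Agent.BMx.Bridge.hd (Cfsg.Agent.BMx.Bridge.tl (Cfsg.Agent.BMx.Bridge.tl (Cfsg.Agent.BMx.Bridge.tl batV_5)))

theorem c_ky_1 : chk (wk 1 ++ wy1) (wy1 ++ wk 1) = true :=
  Cfsg.Agent.BMx.Bridge.hd (Cfsg.Agent.BMx.Bridge.tl (Cfsg.Agent.BMx.Bridge.tl (Cfsg.Agent.BMx.Bridge.tl (Cfsg.Agent.BMx.Bridge.tl batV_5))))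

theorem c_nt : chk (wn ++ wt) (wt ++ wn) = true :=
  Cfsg.Agent.BMx.Bridge.hd (Cfsg.Agent.BMx.Bridge.tl (Cfsg.Agent.BMx.Bridge.tl (Cfsg.Agent.BMx.Bridge.tl (Cfsg.Agent.BMx.Bridge.tl (Cfsg.Agent.BMx.Bridge.tl batV_5)))))

theorem c_ny : chk (wy1 ++ wn) (wn ++ winv wy1) = true :=
  Cfsg.Agent.BMx.Bridge.hd (Cfsg.Agent.BMx.Bridge.tl (Cfsg.Agent.BMx.Bridge.tl (Cfsg.Agent.BMx.Bridge.tl (Cfsg.Agent.BMx.Bridge.tl (Cfsg.Agent.BMx.Bridge.tl (Cfsg.Agent.BMx.Bridge.tl batV_5))))))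

end Cfsg.Agent.H863.U33
end
end

-- part: H863/U33/ChkAll
section
set_option linter.all false

-- part: the checks
section
/-! # S5525, part F: kernel checks (helper863) -/

set_option autoImplicit false
set_option Elab.async false

namespace Cfsg.Agent.H863.U33

open Cfsg.Agent.BabyM.Conc Cfsg.Agent.BabyM.Inst Cfsg.Agent.BabyM.TransInv Cfsg.Agent.H819.U33 Cfsg.Agent.BM.StageW
open Cfsg.Agent.Monster.VecEngine Cfsg.Agent.BabyM.WordsInst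

private theorem batTwo {p q : List Cfsg.Agent.BabyM.Conc.Ltr × List Cfsg.Agent.BabyM.Conc.Ltr}
    {L : List (List Cfsg.Agent.BabyM.Conc.Ltr × List Cfsg.Agent.BabyM.Conc.Ltr)}
    (h1 : Cfsg.Agent.BMx.Fast.allEq [p, q] = true) (h2 : Cfsg.Agent.BMx.Fast.allEq L = true) :
    Cfsg.Agent.BMx.Fast.allEq (p :: q :: L) = true :=
  have h : and (Cfsg.Agent.BMx.Fast.eqF p.1 p.2) (and (Cfsg.Agent.BMx.Fast.eqF q.1 q.2) true) = true := h1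
  show and (Cfsg.Agent.BMx.Fast.eqF p.1 p.2) (and (Cfsg.Agent.BMx.Fast.eqF q.1 q.2) (Cfsg.Agent.BMx.Fast.allEq L)) = true from
    Bool.and_eq_true_iff.2 ⟨(Bool.and_eq_true_iff.1 h).1,
      Bool.and_eq_true_iff.2 ⟨(Bool.and_eq_true_iff.1 (Bool.and_eq_true_iff.1 h).2).1, h2⟩⟩

private theorem batA_0 : Cfsg.Agent.BMx.Fast.allEq [
    ((we 0 ++ cj wr (we 0)), (cj wr (we 0) ++ we 0)),
    ((we 0 ++ cj wr (we 1)), (cj wr (we 1) ++ we 0)),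
    ((we 0 ++ cj wr (we 2)), (cj wr (we 2) ++ we 0)),
    ((we 0 ++ cj wr (we 3)), (cj wr (we 3) ++ we 0))] = true :=
  batTwo (by decide +kernel) (by decide +kernel)

private theorem dc_ef_00 : chk (we 0 ++ cj wr (we 0)) (cj wr (we 0) ++ we 0) = true :=
  Cfsg.Agent.BMx.Bridge.hd batA_0

private theorem dc_ef_01 : chk (we 0 ++ cj wr (we 1)) (cj wr (we 1) ++ we 0) = true :=
  Cfsg.Agent.BMx.Bridge.hd (Cfsg.Agent.BMx.Bridge.tl batA_0)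

private theorem dc_ef_02 : chk (we 0 ++ cj wr (we 2)) (cj wr (we 2) ++ we 0) = true :=
  Cfsg.Agent.BMx.Bridge.hd (Cfsg.Agent.BMx.Bridge.tl (Cfsg.Agent.BMx.Bridge.tl batA_0))

private theorem dc_ef_03 : chk (we 0 ++ cj wr (we 3)) (cj wr (we 3) ++ we 0) = true :=
  Cfsg.Agent.BMx.Bridge.hd (Cfsg.Agent.BMx.Bridge.tl (Cfsg.Agent.BMx.Bridge.tl (Cfsg.Agent.BMx.Bridge.tl batA_0)))

private theorem batA_1 : Cfsg.Agent.BMx.Fast.allEq [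
    ((we 1 ++ cj wr (we 1)), (cj wr (we 1) ++ we 1)),
    ((we 1 ++ cj wr (we 2)), (cj wr (we 2) ++ we 1)),
    ((we 1 ++ cj wr (we 3)), (cj wr (we 3) ++ we 1)),
    ((we 2 ++ cj wr (we 2)), (cj wr (we 2) ++ we 2))] = true :=
  batTwo (by decide +kernel) (by decide +kernel)

private theorem dc_ef_11 : chk (we 1 ++ cj wr (we 1)) (cj wr (we 1) ++ we 1) = true :=
  Cfsg.Agent.BMx.Bridge.hd batA_1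

private theorem dc_ef_12 : chk (we 1 ++ cj wr (we 2)) (cj wr (we 2) ++ we 1) = true :=
  Cfsg.Agent.BMx.Bridge.hd (Cfsg.Agent.BMx.Bridge.tl batA_1)

private theorem dc_ef_13 : chk (we 1 ++ cj wr (we 3)) (cj wr (we 3) ++ we 1) = true :=
  Cfsg.Agent.BMx.Bridge.hd (Cfsg.Agent.BMx.Bridge.tl (Cfsg.Agent.BMx.Bridge.tl batA_1))

private theorem dc_ef_22 : chk (we 2 ++ cj wr (we 2)) (cj wr (we 2) ++ we 2) = true :=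
  Cfsg.Agent.BMx.Bridge.hd (Cfsg.Agent.BMx.Bridge.tl (Cfsg.Agent.BMx.Bridge.tl (Cfsg.Agent.BMx.Bridge.tl batA_1)))

private theorem batA_2 : Cfsg.Agent.BMx.Fast.allEq [
    ((we 2 ++ cj wr (we 3)), (cj wr (we 3) ++ we 2)),
    ((we 3 ++ cj wr (we 3)), (cj wr (we 3) ++ we 3)),
    ((we 0 ++ [Ltr.z]), ([Ltr.z] ++ nfw (Mw0 0) (Cw0 0))),
    ((we 1 ++ [Ltr.z]), ([Ltr.z] ++ nfw (Mw0 1) (Cw0 1)))] = true := by decide +kernel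

private theorem dc_ef_23 : chk (we 2 ++ cj wr (we 3)) (cj wr (we 3) ++ we 2) = true :=
  Cfsg.Agent.BMx.Bridge.hd batA_2

private theorem dc_ef_33 : chk (we 3 ++ cj wr (we 3)) (cj wr (we 3) ++ we 3) = true :=
  Cfsg.Agent.BMx.Bridge.hd (Cfsg.Agent.BMx.Bridge.tl batA_2)

private theorem dc_w0_0 : chk (we 0 ++ [Ltr.z]) ([Ltr.z] ++ nfw (Mw0 0) (Cw0 0)) = true :=
  Cfsg.Agent.BMx.Bridge.hd (Cfsg.Agent.BMx.Bridge.tl (Cfsg.Agent.BMx.Bridge.tl batA_2))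

private theorem dc_w0_1 : chk (we 1 ++ [Ltr.z]) ([Ltr.z] ++ nfw (Mw0 1) (Cw0 1)) = true :=
  Cfsg.Agent.BMx.Bridge.hd (Cfsg.Agent.BMx.Bridge.tl (Cfsg.Agent.BMx.Bridge.tl (Cfsg.Agent.BMx.Bridge.tl batA_2)))

private theorem batA_3 : Cfsg.Agent.BMx.Fast.allEq [
    ((we 2 ++ [Ltr.z]), ([Ltr.z] ++ nfw (Mw0 2) (Cw0 2))),
    ((we 3 ++ [Ltr.z]), ([Ltr.z] ++ nfw (Mw0 3) (Cw0 3))),
    ((we 4 ++ [Ltr.z]), ([Ltr.z] ++ nfw (Mw0 4) (Cw0 4))),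
    ((we 5 ++ [Ltr.z]), ([Ltr.z] ++ nfw (Mw0 5) (Cw0 5)))] = true := by decide +kernel

private theorem dc_w0_2 : chk (we 2 ++ [Ltr.z]) ([Ltr.z] ++ nfw (Mw0 2) (Cw0 2)) = true :=
  Cfsg.Agent.BMx.Bridge.hd batA_3

private theorem dc_w0_3 : chk (we 3 ++ [Ltr.z]) ([Ltr.z] ++ nfw (Mw0 3) (Cw0 3)) = true :=
  Cfsg.Agent.BMx.Bridge.hd (Cfsg.Agent.BMx.Bridge.tl batA_3)

private theorem dc_w0_4 : chk (we 4 ++ [Ltr.z]) ([Ltr.z] ++ nfw (Mw0 4) (Cw0 4)) = true :=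
  Cfsg.Agent.BMx.Bridge.hd (Cfsg.Agent.BMx.Bridge.tl (Cfsg.Agent.BMx.Bridge.tl batA_3))

private theorem dc_w0_5 : chk (we 5 ++ [Ltr.z]) ([Ltr.z] ++ nfw (Mw0 5) (Cw0 5)) = true :=
  Cfsg.Agent.BMx.Bridge.hd (Cfsg.Agent.BMx.Bridge.tl (Cfsg.Agent.BMx.Bridge.tl (Cfsg.Agent.BMx.Bridge.tl batA_3)))

private theorem batA_4 : Cfsg.Agent.BMx.Fast.allEq [
    ((we 6 ++ [Ltr.z]), ([Ltr.z] ++ nfw (Mw0 6) (Cw0 6))),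
    ((we 7 ++ [Ltr.z]), ([Ltr.z] ++ nfw (Mw0 7) (Cw0 7))),
    ((we 0 ++ wk0), (wk0 ++ nfw (Mk0 0) (Ck0 0))),
    ((we 1 ++ wk0), (wk0 ++ nfw (Mk0 1) (Ck0 1)))] = true := by decide +kernel

private theorem dc_w0_6 : chk (we 6 ++ [Ltr.z]) ([Ltr.z] ++ nfw (Mw0 6) (Cw0 6)) = true :=
  Cfsg.Agent.BMx.Bridge.hd batA_4

private theorem dc_w0_7 : chk (we 7 ++ [Ltr.z]) ([Ltr.z] ++ nfw (Mw0 7) (Cw0 7)) = true :=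
  Cfsg.Agent.BMx.Bridge.hd (Cfsg.Agent.BMx.Bridge.tl batA_4)

private theorem dc_k0_0 : chk (we 0 ++ wk0) (wk0 ++ nfw (Mk0 0) (Ck0 0)) = true :=
  Cfsg.Agent.BMx.Bridge.hd (Cfsg.Agent.BMx.Bridge.tl (Cfsg.Agent.BMx.Bridge.tl batA_4))

private theorem dc_k0_1 : chk (we 1 ++ wk0) (wk0 ++ nfw (Mk0 1) (Ck0 1)) = true :=
  Cfsg.Agent.BMx.Bridge.hd (Cfsg.Agent.BMx.Bridge.tl (Cfsg.Agent.BMx.Bridge.tl (Cfsg.Agent.BMx.Bridge.tl batA_4)))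

private theorem batA_5 : Cfsg.Agent.BMx.Fast.allEq [
    ((we 2 ++ wk0), (wk0 ++ nfw (Mk0 2) (Ck0 2))),
    ((we 3 ++ wk0), (wk0 ++ nfw (Mk0 3) (Ck0 3))),
    ((we 4 ++ wk0), (wk0 ++ nfw (Mk0 4) (Ck0 4))),
    ((we 5 ++ wk0), (wk0 ++ nfw (Mk0 5) (Ck0 5)))] = true := by decide +kernel

private theorem dc_k0_2 : chk (we 2 ++ wk0) (wk0 ++ nfw (Mk0 2) (Ck0 2)) = true :=
  Cfsg.Agent.BMx.Bridge.hd batA_5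

private theorem dc_k0_3 : chk (we 3 ++ wk0) (wk0 ++ nfw (Mk0 3) (Ck0 3)) = true :=
  Cfsg.Agent.BMx.Bridge.hd (Cfsg.Agent.BMx.Bridge.tl batA_5)

private theorem dc_k0_4 : chk (we 4 ++ wk0) (wk0 ++ nfw (Mk0 4) (Ck0 4)) = true :=
  Cfsg.Agent.BMx.Bridge.hd (Cfsg.Agent.BMx.Bridge.tl (Cfsg.Agent.BMx.Bridge.tl batA_5))

private theorem dc_k0_5 : chk (we 5 ++ wk0) (wk0 ++ nfw (Mk0 5) (Ck0 5)) = true :=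
  Cfsg.Agent.BMx.Bridge.hd (Cfsg.Agent.BMx.Bridge.tl (Cfsg.Agent.BMx.Bridge.tl (Cfsg.Agent.BMx.Bridge.tl batA_5)))

private theorem batA_6 : Cfsg.Agent.BMx.Fast.allEq [
    ((we 6 ++ wk0), (wk0 ++ nfw (Mk0 6) (Ck0 6))),
    ((we 7 ++ wk0), (wk0 ++ nfw (Mk0 7) (Ck0 7))),
    ((we 0 ++ wr), (wr ++ nfw (Mw1 0) (Cw1 0))),
    ((we 1 ++ wr), (wr ++ nfw (Mw1 1) (Cw1 1)))] = true :=
  batTwo (by decide +kernel) (by decide +kernel)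

private theorem dc_k0_6 : chk (we 6 ++ wk0) (wk0 ++ nfw (Mk0 6) (Ck0 6)) = true :=
  Cfsg.Agent.BMx.Bridge.hd batA_6

private theorem dc_k0_7 : chk (we 7 ++ wk0) (wk0 ++ nfw (Mk0 7) (Ck0 7)) = true :=
  Cfsg.Agent.BMx.Bridge.hd (Cfsg.Agent.BMx.Bridge.tl batA_6)

private theorem dc_w1_0 : chk (we 0 ++ wr) (wr ++ nfw (Mw1 0) (Cw1 0)) = true :=
  Cfsg.Agent.BMx.Bridge.hd (Cfsg.Agent.BMx.Bridge.tl (Cfsg.Agent.BMx.Bridge.tl batA_6))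

private theorem dc_w1_1 : chk (we 1 ++ wr) (wr ++ nfw (Mw1 1) (Cw1 1)) = true :=
  Cfsg.Agent.BMx.Bridge.hd (Cfsg.Agent.BMx.Bridge.tl (Cfsg.Agent.BMx.Bridge.tl (Cfsg.Agent.BMx.Bridge.tl batA_6)))

private theorem batA_7 : Cfsg.Agent.BMx.Fast.allEq [
    ((we 2 ++ wr), (wr ++ nfw (Mw1 2) (Cw1 2))),
    ((we 3 ++ wr), (wr ++ nfw (Mw1 3) (Cw1 3))),
    ((we 4 ++ wr), (wr ++ nfw (Mw1 4) (Cw1 4))),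
    ((we 5 ++ wr), (wr ++ nfw (Mw1 5) (Cw1 5)))] = true := by decide +kernel

private theorem dc_w1_2 : chk (we 2 ++ wr) (wr ++ nfw (Mw1 2) (Cw1 2)) = true :=
  Cfsg.Agent.BMx.Bridge.hd batA_7

private theorem dc_w1_3 : chk (we 3 ++ wr) (wr ++ nfw (Mw1 3) (Cw1 3)) = true :=
  Cfsg.Agent.BMx.Bridge.hd (Cfsg.Agent.BMx.Bridge.tl batA_7)

private theorem dc_w1_4 : chk (we 4 ++ wr) (wr ++ nfw (Mw1 4) (Cw1 4)) = true :=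
  Cfsg.Agent.BMx.Bridge.hd (Cfsg.Agent.BMx.Bridge.tl (Cfsg.Agent.BMx.Bridge.tl batA_7))

private theorem dc_w1_5 : chk (we 5 ++ wr) (wr ++ nfw (Mw1 5) (Cw1 5)) = true :=
  Cfsg.Agent.BMx.Bridge.hd (Cfsg.Agent.BMx.Bridge.tl (Cfsg.Agent.BMx.Bridge.tl (Cfsg.Agent.BMx.Bridge.tl batA_7)))

private theorem batA_8 : Cfsg.Agent.BMx.Fast.allEq [
    ((we 6 ++ wr), (wr ++ nfw (Mw1 6) (Cw1 6))),
    ((we 7 ++ wr), (wr ++ nfw (Mw1 7) (Cw1 7))),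
    ((we 0 ++ ww2), (ww2 ++ nfw (Mw2 0) (Cw2 0))),
    ((we 1 ++ ww2), (ww2 ++ nfw (Mw2 1) (Cw2 1)))] = true := by decide +kernel

private theorem dc_w1_6 : chk (we 6 ++ wr) (wr ++ nfw (Mw1 6) (Cw1 6)) = true :=
  Cfsg.Agent.BMx.Bridge.hd batA_8

private theorem dc_w1_7 : chk (we 7 ++ wr) (wr ++ nfw (Mw1 7) (Cw1 7)) = true :=
  Cfsg.Agent.BMx.Bridge.hd (Cfsg.Agent.BMx.Bridge.tl batA_8)

private theorem dc_w2_0 : chk (we 0 ++ ww2) (ww2 ++ nfw (Mw2 0) (Cw2 0)) = true :=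
  Cfsg.Agent.BMx.Bridge.hd (Cfsg.Agent.BMx.Bridge.tl (Cfsg.Agent.BMx.Bridge.tl batA_8))

private theorem dc_w2_1 : chk (we 1 ++ ww2) (ww2 ++ nfw (Mw2 1) (Cw2 1)) = true :=
  Cfsg.Agent.BMx.Bridge.hd (Cfsg.Agent.BMx.Bridge.tl (Cfsg.Agent.BMx.Bridge.tl (Cfsg.Agent.BMx.Bridge.tl batA_8)))

private theorem batA_9 : Cfsg.Agent.BMx.Fast.allEq [
    ((we 2 ++ ww2), (ww2 ++ nfw (Mw2 2) (Cw2 2))),
    ((we 3 ++ ww2), (ww2 ++ nfw (Mw2 3) (Cw2 3))),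
    ((we 4 ++ ww2), (ww2 ++ nfw (Mw2 4) (Cw2 4))),
    ((we 5 ++ ww2), (ww2 ++ nfw (Mw2 5) (Cw2 5)))] = true := by decide +kernel

private theorem dc_w2_2 : chk (we 2 ++ ww2) (ww2 ++ nfw (Mw2 2) (Cw2 2)) = true :=
  Cfsg.Agent.BMx.Bridge.hd batA_9

private theorem dc_w2_3 : chk (we 3 ++ ww2) (ww2 ++ nfw (Mw2 3) (Cw2 3)) = true :=
  Cfsg.Agent.BMx.Bridge.hd (Cfsg.Agent.BMx.Bridge.tl batA_9)

private theorem dc_w2_4 : chk (we 4 ++ ww2) (ww2 ++ nfw (Mw2 4) (Cw2 4)) = true :=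
  Cfsg.Agent.BMx.Bridge.hd (Cfsg.Agent.BMx.Bridge.tl (Cfsg.Agent.BMx.Bridge.tl batA_9))

private theorem dc_w2_5 : chk (we 5 ++ ww2) (ww2 ++ nfw (Mw2 5) (Cw2 5)) = true :=
  Cfsg.Agent.BMx.Bridge.hd (Cfsg.Agent.BMx.Bridge.tl (Cfsg.Agent.BMx.Bridge.tl (Cfsg.Agent.BMx.Bridge.tl batA_9)))

private theorem batA_10 : Cfsg.Agent.BMx.Fast.allEq [
    ((we 6 ++ ww2), (ww2 ++ nfw (Mw2 6) (Cw2 6))),
    ((we 7 ++ ww2), (ww2 ++ nfw (Mw2 7) (Cw2 7))),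
    ((we 0 ++ ww4), (ww4 ++ nfw (Mw4 0) (Cw4 0))),
    ((we 1 ++ ww4), (ww4 ++ nfw (Mw4 1) (Cw4 1)))] = true := by decide +kernel

private theorem dc_w2_6 : chk (we 6 ++ ww2) (ww2 ++ nfw (Mw2 6) (Cw2 6)) = true :=
  Cfsg.Agent.BMx.Bridge.hd batA_10

private theorem dc_w2_7 : chk (we 7 ++ ww2) (ww2 ++ nfw (Mw2 7) (Cw2 7)) = true :=
  Cfsg.Agent.BMx.Bridge.hd (Cfsg.Agent.BMx.Bridge.tl batA_10)

private theorem dc_w4_0 : chk (we 0 ++ ww4) (ww4 ++ nfw (Mw4 0) (Cw4 0)) = true :=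
  Cfsg.Agent.BMx.Bridge.hd (Cfsg.Agent.BMx.Bridge.tl (Cfsg.Agent.BMx.Bridge.tl batA_10))

private theorem dc_w4_1 : chk (we 1 ++ ww4) (ww4 ++ nfw (Mw4 1) (Cw4 1)) = true :=
  Cfsg.Agent.BMx.Bridge.hd (Cfsg.Agent.BMx.Bridge.tl (Cfsg.Agent.BMx.Bridge.tl (Cfsg.Agent.BMx.Bridge.tl batA_10)))

private theorem batA_11 : Cfsg.Agent.BMx.Fast.allEq [
    ((we 2 ++ ww4), (ww4 ++ nfw (Mw4 2) (Cw4 2))),
    ((we 3 ++ ww4), (ww4 ++ nfw (Mw4 3) (Cw4 3))),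
    ((we 4 ++ ww4), (ww4 ++ nfw (Mw4 4) (Cw4 4))),
    ((we 5 ++ ww4), (ww4 ++ nfw (Mw4 5) (Cw4 5)))] = true := by decide +kernel

private theorem dc_w4_2 : chk (we 2 ++ ww4) (ww4 ++ nfw (Mw4 2) (Cw4 2)) = true :=
  Cfsg.Agent.BMx.Bridge.hd batA_11

private theorem dc_w4_3 : chk (we 3 ++ ww4) (ww4 ++ nfw (Mw4 3) (Cw4 3)) = true :=
  Cfsg.Agent.BMx.Bridge.hd (Cfsg.Agent.BMx.Bridge.tl batA_11)

private theorem dc_w4_4 : chk (we 4 ++ ww4) (ww4 ++ nfw (Mw4 4) (Cw4 4)) = true :=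
  Cfsg.Agent.BMx.Bridge.hd (Cfsg.Agent.BMx.Bridge.tl (Cfsg.Agent.BMx.Bridge.tl batA_11))

private theorem dc_w4_5 : chk (we 5 ++ ww4) (ww4 ++ nfw (Mw4 5) (Cw4 5)) = true :=
  Cfsg.Agent.BMx.Bridge.hd (Cfsg.Agent.BMx.Bridge.tl (Cfsg.Agent.BMx.Bridge.tl (Cfsg.Agent.BMx.Bridge.tl batA_11)))

private theorem batA_12 : Cfsg.Agent.BMx.Fast.allEq [
    ((we 6 ++ ww4), (ww4 ++ nfw (Mw4 6) (Cw4 6))),
    ((we 7 ++ ww4), (ww4 ++ nfw (Mw4 7) (Cw4 7))),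
    ((we 0 ++ ww5), (ww5 ++ nfw (Mw5 0) (Cw5 0))),
    ((we 1 ++ ww5), (ww5 ++ nfw (Mw5 1) (Cw5 1)))] = true := by decide +kernel

private theorem dc_w4_6 : chk (we 6 ++ ww4) (ww4 ++ nfw (Mw4 6) (Cw4 6)) = true :=
  Cfsg.Agent.BMx.Bridge.hd batA_12

private theorem dc_w4_7 : chk (we 7 ++ ww4) (ww4 ++ nfw (Mw4 7) (Cw4 7)) = true :=
  Cfsg.Agent.BMx.Bridge.hd (Cfsg.Agent.BMx.Bridge.tl batA_12)

private theorem dc_w5_0 : chk (we 0 ++ ww5) (ww5 ++ nfw (Mw5 0) (Cw5 0)) = true :=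
  Cfsg.Agent.BMx.Bridge.hd (Cfsg.Agent.BMx.Bridge.tl (Cfsg.Agent.BMx.Bridge.tl batA_12))

private theorem dc_w5_1 : chk (we 1 ++ ww5) (ww5 ++ nfw (Mw5 1) (Cw5 1)) = true :=
  Cfsg.Agent.BMx.Bridge.hd (Cfsg.Agent.BMx.Bridge.tl (Cfsg.Agent.BMx.Bridge.tl (Cfsg.Agent.BMx.Bridge.tl batA_12)))

private theorem batA_13 : Cfsg.Agent.BMx.Fast.allEq [
    ((we 2 ++ ww5), (ww5 ++ nfw (Mw5 2) (Cw5 2))),
    ((we 3 ++ ww5), (ww5 ++ nfw (Mw5 3) (Cw5 3))),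
    ((we 4 ++ ww5), (ww5 ++ nfw (Mw5 4) (Cw5 4))),
    ((we 5 ++ ww5), (ww5 ++ nfw (Mw5 5) (Cw5 5)))] = true := by decide +kernel

private theorem dc_w5_2 : chk (we 2 ++ ww5) (ww5 ++ nfw (Mw5 2) (Cw5 2)) = true :=
  Cfsg.Agent.BMx.Bridge.hd batA_13

private theorem dc_w5_3 : chk (we 3 ++ ww5) (ww5 ++ nfw (Mw5 3) (Cw5 3)) = true :=
  Cfsg.Agent.BMx.Bridge.hd (Cfsg.Agent.BMx.Bridge.tl batA_13)

private theorem dc_w5_4 : chk (we 4 ++ ww5) (ww5 ++ nfw (Mw5 4) (Cw5 4)) = true :=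
  Cfsg.Agent.BMx.Bridge.hd (Cfsg.Agent.BMx.Bridge.tl (Cfsg.Agent.BMx.Bridge.tl batA_13))

private theorem dc_w5_5 : chk (we 5 ++ ww5) (ww5 ++ nfw (Mw5 5) (Cw5 5)) = true :=
  Cfsg.Agent.BMx.Bridge.hd (Cfsg.Agent.BMx.Bridge.tl (Cfsg.Agent.BMx.Bridge.tl (Cfsg.Agent.BMx.Bridge.tl batA_13)))

private theorem batA_14 : Cfsg.Agent.BMx.Fast.allEq [
    ((we 6 ++ ww5), (ww5 ++ nfw (Mw5 6) (Cw5 6))),
    ((we 7 ++ ww5), (ww5 ++ nfw (Mw5 7) (Cw5 7))),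
    ((we 0 ++ wk1), (wk1 ++ nfw (Mk1 0) (Ck1 0))),
    ((we 1 ++ wk1), (wk1 ++ nfw (Mk1 1) (Ck1 1)))] = true :=
  batTwo (by decide +kernel) (by decide +kernel)

private theorem dc_w5_6 : chk (we 6 ++ ww5) (ww5 ++ nfw (Mw5 6) (Cw5 6)) = true :=
  Cfsg.Agent.BMx.Bridge.hd batA_14

private theorem dc_w5_7 : chk (we 7 ++ ww5) (ww5 ++ nfw (Mw5 7) (Cw5 7)) = true :=
  Cfsg.Agent.BMx.Bridge.hd (Cfsg.Agent.BMx.Bridge.tl batA_14)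

private theorem dc_k1_0 : chk (we 0 ++ wk1) (wk1 ++ nfw (Mk1 0) (Ck1 0)) = true :=
  Cfsg.Agent.BMx.Bridge.hd (Cfsg.Agent.BMx.Bridge.tl (Cfsg.Agent.BMx.Bridge.tl batA_14))

private theorem dc_k1_1 : chk (we 1 ++ wk1) (wk1 ++ nfw (Mk1 1) (Ck1 1)) = true :=
  Cfsg.Agent.BMx.Bridge.hd (Cfsg.Agent.BMx.Bridge.tl (Cfsg.Agent.BMx.Bridge.tl (Cfsg.Agent.BMx.Bridge.tl batA_14)))

private theorem batA_15 : Cfsg.Agent.BMx.Fast.allEq [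
    ((we 2 ++ wk1), (wk1 ++ nfw (Mk1 2) (Ck1 2))),
    ((we 3 ++ wk1), (wk1 ++ nfw (Mk1 3) (Ck1 3))),
    ((we 4 ++ wk1), (wk1 ++ nfw (Mk1 4) (Ck1 4))),
    ((we 5 ++ wk1), (wk1 ++ nfw (Mk1 5) (Ck1 5)))] = true :=
  batTwo (by decide +kernel) (by decide +kernel)

private theorem dc_k1_2 : chk (we 2 ++ wk1) (wk1 ++ nfw (Mk1 2) (Ck1 2)) = true :=
  Cfsg.Agent.BMx.Bridge.hd batA_15

private theorem dc_k1_3 : chk (we 3 ++ wk1) (wk1 ++ nfw (Mk1 3) (Ck1 3)) = true :=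
  Cfsg.Agent.BMx.Bridge.hd (Cfsg.Agent.BMx.Bridge.tl batA_15)

private theorem dc_k1_4 : chk (we 4 ++ wk1) (wk1 ++ nfw (Mk1 4) (Ck1 4)) = true :=
  Cfsg.Agent.BMx.Bridge.hd (Cfsg.Agent.BMx.Bridge.tl (Cfsg.Agent.BMx.Bridge.tl batA_15))

private theorem dc_k1_5 : chk (we 5 ++ wk1) (wk1 ++ nfw (Mk1 5) (Ck1 5)) = true :=
  Cfsg.Agent.BMx.Bridge.hd (Cfsg.Agent.BMx.Bridge.tl (Cfsg.Agent.BMx.Bridge.tl (Cfsg.Agent.BMx.Bridge.tl batA_15)))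

private theorem batA_16 : Cfsg.Agent.BMx.Fast.allEq [
    ((we 6 ++ wk1), (wk1 ++ nfw (Mk1 6) (Ck1 6))),
    ((we 7 ++ wk1), (wk1 ++ nfw (Mk1 7) (Ck1 7))),
    ((we 0 ++ wn), (wn ++ nfw (Mn 0) (Cn 0))),
    ((we 1 ++ wn), (wn ++ nfw (Mn 1) (Cn 1)))] = true :=
  batTwo (by decide +kernel) (by decide +kernel)

private theorem dc_k1_6 : chk (we 6 ++ wk1) (wk1 ++ nfw (Mk1 6) (Ck1 6)) = true :=
  Cfsg.Agent.BMx.Bridge.hd batA_16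

private theorem dc_k1_7 : chk (we 7 ++ wk1) (wk1 ++ nfw (Mk1 7) (Ck1 7)) = true :=
  Cfsg.Agent.BMx.Bridge.hd (Cfsg.Agent.BMx.Bridge.tl batA_16)

private theorem dc_n_0 : chk (we 0 ++ wn) (wn ++ nfw (Mn 0) (Cn 0)) = true :=
  Cfsg.Agent.BMx.Bridge.hd (Cfsg.Agent.BMx.Bridge.tl (Cfsg.Agent.BMx.Bridge.tl batA_16))

private theorem dc_n_1 : chk (we 1 ++ wn) (wn ++ nfw (Mn 1) (Cn 1)) = true :=
  Cfsg.Agent.BMx.Bridge.hd (Cfsg.Agent.BMx.Bridge.tl (Cfsg.Agent.BMx.Bridge.tl (Cfsg.Agent.BMx.Bridge.tl batA_16)))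

private theorem batA_17 : Cfsg.Agent.BMx.Fast.allEq [
    ((we 2 ++ wn), (wn ++ nfw (Mn 2) (Cn 2))),
    ((we 3 ++ wn), (wn ++ nfw (Mn 3) (Cn 3))),
    ((we 4 ++ wn), (wn ++ nfw (Mn 4) (Cn 4))),
    ((we 5 ++ wn), (wn ++ nfw (Mn 5) (Cn 5)))] = true :=
  batTwo (by decide +kernel) (by decide +kernel)

private theorem dc_n_2 : chk (we 2 ++ wn) (wn ++ nfw (Mn 2) (Cn 2)) = true :=
  Cfsg.Agent.BMx.Bridge.hd batA_17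

private theorem dc_n_3 : chk (we 3 ++ wn) (wn ++ nfw (Mn 3) (Cn 3)) = true :=
  Cfsg.Agent.BMx.Bridge.hd (Cfsg.Agent.BMx.Bridge.tl batA_17)

private theorem dc_n_4 : chk (we 4 ++ wn) (wn ++ nfw (Mn 4) (Cn 4)) = true :=
  Cfsg.Agent.BMx.Bridge.hd (Cfsg.Agent.BMx.Bridge.tl (Cfsg.Agent.BMx.Bridge.tl batA_17))

private theorem dc_n_5 : chk (we 5 ++ wn) (wn ++ nfw (Mn 5) (Cn 5)) = true :=
  Cfsg.Agent.BMx.Bridge.hd (Cfsg.Agent.BMx.Bridge.tl (Cfsg.Agent.BMx.Bridge.tl (Cfsg.Agent.BMx.Bridge.tl batA_17)))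

private theorem batA_18 : Cfsg.Agent.BMx.Fast.allEq [
    ((we 6 ++ wn), (wn ++ nfw (Mn 6) (Cn 6))),
    ((we 7 ++ wn), (wn ++ nfw (Mn 7) (Cn 7))),
    ((we 0 ++ wt), (wt ++ nfw (Mt 0) (Ct 0))),
    ((we 1 ++ wt), (wt ++ nfw (Mt 1) (Ct 1)))] = true :=
  batTwo (by decide +kernel) (by decide +kernel)

private theorem dc_n_6 : chk (we 6 ++ wn) (wn ++ nfw (Mn 6) (Cn 6)) = true :=
  Cfsg.Agent.BMx.Bridge.hd batA_18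

private theorem dc_n_7 : chk (we 7 ++ wn) (wn ++ nfw (Mn 7) (Cn 7)) = true :=
  Cfsg.Agent.BMx.Bridge.hd (Cfsg.Agent.BMx.Bridge.tl batA_18)

theorem c_t_0 : chk (we 0 ++ wt) (wt ++ nfw (Mt 0) (Ct 0)) = true :=
  Cfsg.Agent.BMx.Bridge.hd (Cfsg.Agent.BMx.Bridge.tl (Cfsg.Agent.BMx.Bridge.tl batA_18))

theorem c_t_1 : chk (we 1 ++ wt) (wt ++ nfw (Mt 1) (Ct 1)) = true :=
  Cfsg.Agent.BMx.Bridge.hd (Cfsg.Agent.BMx.Bridge.tl (Cfsg.Agent.BMx.Bridge.tl (Cfsg.Agent.BMx.Bridge.tl batA_18)))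

private theorem batA_19 : Cfsg.Agent.BMx.Fast.allEq [
    ((we 2 ++ wt), (wt ++ nfw (Mt 2) (Ct 2))),
    ((we 3 ++ wt), (wt ++ nfw (Mt 3) (Ct 3))),
    ((we 4 ++ wt), (wt ++ nfw (Mt 4) (Ct 4))),
    ((we 5 ++ wt), (wt ++ nfw (Mt 5) (Ct 5)))] = true := by decide +kernel

theorem c_t_2 : chk (we 2 ++ wt) (wt ++ nfw (Mt 2) (Ct 2)) = true :=
  Cfsg.Agent.BMx.Bridge.hd batA_19

theorem c_t_3 : chk (we 3 ++ wt) (wt ++ nfw (Mt 3) (Ct 3)) = true :=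
  Cfsg.Agent.BMx.Bridge.hd (Cfsg.Agent.BMx.Bridge.tl batA_19)

theorem c_t_4 : chk (we 4 ++ wt) (wt ++ nfw (Mt 4) (Ct 4)) = true :=
  Cfsg.Agent.BMx.Bridge.hd (Cfsg.Agent.BMx.Bridge.tl (Cfsg.Agent.BMx.Bridge.tl batA_19))

theorem c_t_5 : chk (we 5 ++ wt) (wt ++ nfw (Mt 5) (Ct 5)) = true :=
  Cfsg.Agent.BMx.Bridge.hd (Cfsg.Agent.BMx.Bridge.tl (Cfsg.Agent.BMx.Bridge.tl (Cfsg.Agent.BMx.Bridge.tl batA_19)))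

private theorem batA_20 : Cfsg.Agent.BMx.Fast.allEq [
    ((we 6 ++ wt), (wt ++ nfw (Mt 6) (Ct 6))),
    ((we 7 ++ wt), (wt ++ nfw (Mt 7) (Ct 7))),
    ((we 0 ++ ww3), (ww3 ++ nfw (Mw3 0) (Cw3 0))),
    ((we 1 ++ ww3), (ww3 ++ nfw (Mw3 1) (Cw3 1)))] = true := by decide +kernel

theorem c_t_6 : chk (we 6 ++ wt) (wt ++ nfw (Mt 6) (Ct 6)) = true :=
  Cfsg.Agent.BMx.Bridge.hd batA_20

theorem c_t_7 : chk (we 7 ++ wt) (wt ++ nfw (Mt 7) (Ct 7)) = true :=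
  Cfsg.Agent.BMx.Bridge.hd (Cfsg.Agent.BMx.Bridge.tl batA_20)

theorem c_w3_0 : chk (we 0 ++ ww3) (ww3 ++ nfw (Mw3 0) (Cw3 0)) = true :=
  Cfsg.Agent.BMx.Bridge.hd (Cfsg.Agent.BMx.Bridge.tl (Cfsg.Agent.BMx.Bridge.tl batA_20))

theorem c_w3_1 : chk (we 1 ++ ww3) (ww3 ++ nfw (Mw3 1) (Cw3 1)) = true :=
  Cfsg.Agent.BMx.Bridge.hd (Cfsg.Agent.BMx.Bridge.tl (Cfsg.Agent.BMx.Bridge.tl (Cfsg.Agent.BMx.Bridge.tl batA_20)))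

private theorem batA_21 : Cfsg.Agent.BMx.Fast.allEq [
    ((we 2 ++ ww3), (ww3 ++ nfw (Mw3 2) (Cw3 2))),
    ((we 3 ++ ww3), (ww3 ++ nfw (Mw3 3) (Cw3 3))),
    ((we 4 ++ ww3), (ww3 ++ nfw (Mw3 4) (Cw3 4))),
    ((we 5 ++ ww3), (ww3 ++ nfw (Mw3 5) (Cw3 5)))] = true := by decide +kernel

theorem c_w3_2 : chk (we 2 ++ ww3) (ww3 ++ nfw (Mw3 2) (Cw3 2)) = true :=
  Cfsg.Agent.BMx.Bridge.hd batA_21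

theorem c_w3_3 : chk (we 3 ++ ww3) (ww3 ++ nfw (Mw3 3) (Cw3 3)) = true :=
  Cfsg.Agent.BMx.Bridge.hd (Cfsg.Agent.BMx.Bridge.tl batA_21)

theorem c_w3_4 : chk (we 4 ++ ww3) (ww3 ++ nfw (Mw3 4) (Cw3 4)) = true :=
  Cfsg.Agent.BMx.Bridge.hd (Cfsg.Agent.BMx.Bridge.tl (Cfsg.Agent.BMx.Bridge.tl batA_21))

theorem c_w3_5 : chk (we 5 ++ ww3) (ww3 ++ nfw (Mw3 5) (Cw3 5)) = true :=
  Cfsg.Agent.BMx.Bridge.hd (Cfsg.Agent.BMx.Bridge.tl (Cfsg.Agent.BMx.Bridge.tl (Cfsg.Agent.BMx.Bridge.tl batA_21)))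

private theorem batA_22 : Cfsg.Agent.BMx.Fast.allEq [
    ((we 6 ++ ww3), (ww3 ++ nfw (Mw3 6) (Cw3 6))),
    ((we 7 ++ ww3), (ww3 ++ nfw (Mw3 7) (Cw3 7)))] = true := by decide +kernel

theorem c_w3_6 : chk (we 6 ++ ww3) (ww3 ++ nfw (Mw3 6) (Cw3 6)) = true :=
  Cfsg.Agent.BMx.Bridge.hd batA_22

theorem c_w3_7 : chk (we 7 ++ ww3) (ww3 ++ nfw (Mw3 7) (Cw3 7)) = true :=
  Cfsg.Agent.BMx.Bridge.hd (Cfsg.Agent.BMx.Bridge.tl batA_22)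

end Cfsg.Agent.H863.U33
end

-- part: H863/U33/ChkAll
section
/-! # S5525, part F: all kernel checks (helper863) -/

set_option autoImplicit false

namespace Cfsg.Agent.H863.U33

open Cfsg.Agent.BabyM.Conc Cfsg.Agent.BabyM.Inst Cfsg.Agent.BabyM.TransInv Cfsg.Agent.H819.U33 Cfsg.Agent.BM.StageW

theorem c_t : ∀ j : Fin 8, chk (we j ++ wt) (wt ++ nfw (Mt j) (Ct j)) = true
  | 0 => c_t_0
  | 1 => c_t_1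
  | 2 => c_t_2
  | 3 => c_t_3
  | 4 => c_t_4
  | 5 => c_t_5
  | 6 => c_t_6
  | 7 => c_t_7

theorem c_w0 : ∀ j : Fin 8, chk (we j ++ [.z]) ([.z] ++ nfw (Mw0 j) (Cw0 j)) = true
  | 0 => dc_w0_0
  | 1 => dc_w0_1
  | 2 => dc_w0_2
  | 3 => dc_w0_3
  | 4 => dc_w0_4
  | 5 => dc_w0_5
  | 6 => dc_w0_6
  | 7 => dc_w0_7

theorem c_w1 : ∀ j : Fin 8, chk (we j ++ wr) (wr ++ nfw (Mw1 j) (Cw1 j)) = true
  | 0 => dc_w1_0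
  | 1 => dc_w1_1
  | 2 => dc_w1_2
  | 3 => dc_w1_3
  | 4 => dc_w1_4
  | 5 => dc_w1_5
  | 6 => dc_w1_6
  | 7 => dc_w1_7

theorem c_w2 : ∀ j : Fin 8, chk (we j ++ ww2) (ww2 ++ nfw (Mw2 j) (Cw2 j)) = true
  | 0 => dc_w2_0
  | 1 => dc_w2_1
  | 2 => dc_w2_2
  | 3 => dc_w2_3
  | 4 => dc_w2_4
  | 5 => dc_w2_5
  | 6 => dc_w2_6
  | 7 => dc_w2_7

theorem c_w3 : ∀ j : Fin 8, chk (we j ++ ww3) (ww3 ++ nfw (Mw3 j) (Cw3 j)) = true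
  | 0 => c_w3_0
  | 1 => c_w3_1
  | 2 => c_w3_2
  | 3 => c_w3_3
  | 4 => c_w3_4
  | 5 => c_w3_5
  | 6 => c_w3_6
  | 7 => c_w3_7

theorem c_w4 : ∀ j : Fin 8, chk (we j ++ ww4) (ww4 ++ nfw (Mw4 j) (Cw4 j)) = true
  | 0 => dc_w4_0
  | 1 => dc_w4_1
  | 2 => dc_w4_2
  | 3 => dc_w4_3
  | 4 => dc_w4_4
  | 5 => dc_w4_5
  | 6 => dc_w4_6
  | 7 => dc_w4_7

theorem c_w5 : ∀ j : Fin 8, chk (we j ++ ww5) (ww5 ++ nfw (Mw5 j) (Cw5 j)) = true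
  | 0 => dc_w5_0
  | 1 => dc_w5_1
  | 2 => dc_w5_2
  | 3 => dc_w5_3
  | 4 => dc_w5_4
  | 5 => dc_w5_5
  | 6 => dc_w5_6
  | 7 => dc_w5_7

theorem c_k0 : ∀ j : Fin 8, chk (we j ++ wk0) (wk0 ++ nfw (Mk0 j) (Ck0 j)) = true
  | 0 => dc_k0_0
  | 1 => dc_k0_1
  | 2 => dc_k0_2
  | 3 => dc_k0_3
  | 4 => dc_k0_4
  | 5 => dc_k0_5
  | 6 => dc_k0_6
  | 7 => dc_k0_7

theorem c_k1 : ∀ j : Fin 8, chk (we j ++ wk1) (wk1 ++ nfw (Mk1 j) (Ck1 j)) = true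
  | 0 => dc_k1_0
  | 1 => dc_k1_1
  | 2 => dc_k1_2
  | 3 => dc_k1_3
  | 4 => dc_k1_4
  | 5 => dc_k1_5
  | 6 => dc_k1_6
  | 7 => dc_k1_7

theorem c_n : ∀ j : Fin 8, chk (we j ++ wn) (wn ++ nfw (Mn j) (Cn j)) = true
  | 0 => dc_n_0
  | 1 => dc_n_1
  | 2 => dc_n_2
  | 3 => dc_n_3
  | 4 => dc_n_4
  | 5 => dc_n_5
  | 6 => dc_n_6
  | 7 => dc_n_7

theorem c_kw : ∀ (c : Fin 2) (a : Fin 6), chk (ww a ++ wk c) (wk c ++ wnfw (Kw c a) (Ke c a)) = true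
  | 0, 0 => c_kw_00
  | 0, 1 => c_kw_01
  | 0, 2 => c_kw_02
  | 0, 3 => c_kw_03
  | 0, 4 => c_kw_04
  | 0, 5 => c_kw_05
  | 1, 0 => c_kw_10
  | 1, 1 => c_kw_11
  | 1, 2 => c_kw_12
  | 1, 3 => c_kw_13
  | 1, 4 => c_kw_14
  | 1, 5 => c_kw_15

theorem c_nw : ∀ a : Fin 6, chk (ww a ++ wn) (wn ++ wnfw (Nw a) (Ne a)) = true
  | 0 => c_nw_0
  | 1 => c_nw_1
  | 2 => c_nw_2
  | 3 => c_nw_3
  | 4 => c_nw_4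
  | 5 => c_nw_5

theorem c_ww : ∀ (a b : Fin 6) (_ : a ≤ b), chk (ww a ++ ww b) (w2p wt (bc a b) ++ (ww b ++ ww a)) = true
  | 0, 0, _ => c_ww_00
  | 0, 1, _ => c_ww_01
  | 0, 2, _ => c_ww_02
  | 0, 3, _ => c_ww_03
  | 0, 4, _ => c_ww_04
  | 0, 5, _ => c_ww_05
  | 1, 0, h => absurd h (by decide)
  | 1, 1, _ => c_ww_11
  | 1, 2, _ => c_ww_12
  | 1, 3, _ => c_ww_13
  | 1, 4, _ => c_ww_14
  | 1, 5, _ => c_ww_15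
  | 2, 0, h => absurd h (by decide)
  | 2, 1, h => absurd h (by decide)
  | 2, 2, _ => c_ww_22
  | 2, 3, _ => c_ww_23
  | 2, 4, _ => c_ww_24
  | 2, 5, _ => c_ww_25
  | 3, 0, h => absurd h (by decide)
  | 3, 1, h => absurd h (by decide)
  | 3, 2, h => absurd h (by decide)
  | 3, 3, _ => c_ww_33
  | 3, 4, _ => c_ww_34
  | 3, 5, _ => c_ww_35
  | 4, 0, h => absurd h (by decide)
  | 4, 1, h => absurd h (by decide)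
  | 4, 2, h => absurd h (by decide)
  | 4, 3, h => absurd h (by decide)
  | 4, 4, _ => c_ww_44
  | 4, 5, _ => c_ww_45
  | 5, 0, h => absurd h (by decide)
  | 5, 1, h => absurd h (by decide)
  | 5, 2, h => absurd h (by decide)
  | 5, 3, h => absurd h (by decide)
  | 5, 4, h => absurd h (by decide)
  | 5, 5, _ => c_ww_55

theorem c_wsq : ∀ a : Fin 6, chk (ww a ++ ww a) (w2p wt (sqw a)) = true
  | 0 => c_wsq_0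
  | 1 => c_wsq_1
  | 2 => c_wsq_2
  | 3 => c_wsq_3
  | 4 => c_wsq_4
  | 5 => c_wsq_5

theorem c_wt : ∀ a : Fin 6, chk (ww a ++ wt) (wt ++ ww a) = true
  | 0 => c_wt_0
  | 1 => c_wt_1
  | 2 => c_wt_2
  | 3 => c_wt_3
  | 4 => c_wt_4
  | 5 => c_wt_5

theorem c_wy : ∀ a : Fin 6, chk (ww a ++ wy1) (wy1 ++ ww a) = true
  | 0 => c_wy_0
  | 1 => c_wy_1
  | 2 => c_wy_2
  | 3 => c_wy_3
  | 4 => c_wy_4
  | 5 => c_wy_5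

theorem c_kt : ∀ c : Fin 2, chk (wk c ++ wt) (wt ++ wk c) = true
  | 0 => c_kt_0
  | 1 => c_kt_1

theorem c_ky : ∀ c : Fin 2, chk (wk c ++ wy1) (wy1 ++ wk c) = true
  | 0 => c_ky_0
  | 1 => c_ky_1

theorem c_e3 : ∀ j : Fin 4, chk (we (Fin.castAdd 4 j) ++ we (Fin.castAdd 4 j) ++ we (Fin.castAdd 4 j)) [] = true
  | 0 => c_e3_0
  | 1 => c_e3_1
  | 2 => c_e3_2
  | 3 => c_e3_3

theorem c_ey : ∀ j : Fin 4, chk (we (Fin.castAdd 4 j) ++ wy1) (wy1 ++ we (Fin.castAdd 4 j)) = true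
  | 0 => c_ey_0
  | 1 => c_ey_1
  | 2 => c_ey_2
  | 3 => c_ey_3

theorem c_ee : ∀ (i j : Fin 4) (_ : i ≤ j), chk (we (Fin.castAdd 4 i) ++ we (Fin.castAdd 4 j))
    (wp wy1 (fm (Fin.castAdd 4 i) (Fin.castAdd 4 j)) ++ (we (Fin.castAdd 4 j) ++ we (Fin.castAdd 4 i))) = true
  | 0, 0, _ => c_ee_00
  | 0, 1, _ => c_ee_01
  | 0, 2, _ => c_ee_02
  | 0, 3, _ => c_ee_03
  | 1, 0, h => absurd h (by decide)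
  | 1, 1, _ => c_ee_11
  | 1, 2, _ => c_ee_12
  | 1, 3, _ => c_ee_13
  | 2, 0, h => absurd h (by decide)
  | 2, 1, h => absurd h (by decide)
  | 2, 2, _ => c_ee_22
  | 2, 3, _ => c_ee_23
  | 3, 0, h => absurd h (by decide)
  | 3, 1, h => absurd h (by decide)
  | 3, 2, h => absurd h (by decide)
  | 3, 3, _ => c_ee_33

theorem c_ef : ∀ (i j : Fin 4) (_ : i ≤ j), chk (we (Fin.castAdd 4 i) ++ cj wr (we (Fin.castAdd 4 j)))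
    (cj wr (we (Fin.castAdd 4 j)) ++ we (Fin.castAdd 4 i)) = true
  | 0, 0, _ => dc_ef_00
  | 0, 1, _ => dc_ef_01
  | 0, 2, _ => dc_ef_02
  | 0, 3, _ => dc_ef_03
  | 1, 0, h => absurd h (by decide)
  | 1, 1, _ => dc_ef_11
  | 1, 2, _ => dc_ef_12
  | 1, 3, _ => dc_ef_13
  | 2, 0, h => absurd h (by decide)
  | 2, 1, h => absurd h (by decide)
  | 2, 2, _ => dc_ef_22
  | 2, 3, _ => dc_ef_23
  | 3, 0, h => absurd h (by decide)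
  | 3, 1, h => absurd h (by decide)
  | 3, 2, h => absurd h (by decide)
  | 3, 3, _ => dc_ef_33

end Cfsg.Agent.H863.U33
end
end
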